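import Cfsg.Agent.EqLemmas

/-!
# Livingstone–Wagner: tuples, their stabilisers and lifts of permutations (owner: helper77)

For a tuple `y : Fin j ↪ α` and `π : Perm (Fin j)`, `lifts G y π` is the set of `g ∈ G` with
`g (y i) = y (π i)`; `kp G y` is the pointwise stabiliser of the tuple.
-/

set_option autoImplicit false
set_option linter.unusedSectionVars false

open Equiv MulAction

namespace Cfsg.Agent.LivingstoneWagner

variable {α : Type*} [Fintype α] [DecidableEq α] {j : ℕ}

/-- Fixed points of a permutation. -/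
def fixF (g : Perm α) : Finset α := Finset.univ.filter fun x => g x = x

theorem mem_fixF {g : Perm α} {x : α} : x ∈ fixF g ↔ g x = x := by simp [fixF]

theorem card_fixF_add_support (g : Perm α) : (fixF g).card + g.support.card = Fintype.card α := by
  have h : fixF g = g.supportᶜ := by ext x; simp [mem_fixF]
  rw [h, Finset.card_compl_add_card]

theorem fixF_modEq {g : Perm α} (hg : g * g = 1) : (fixF g).card ≡ Fintype.card α [MOD 2] := by
  have h : fixF g = g.supportᶜ := by ext x; simp [mem_fixF]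
  rw [h]
  exact Perm.card_compl_support_modEq (p := 2) (n := 1) (by rw [pow_one, sq, hg])

variable (G : Subgroup (Perm α))

/-- The elements of `G` acting on the tuple `y` as `π`. -/
def lifts (y : Fin j ↪ α) (π : Perm (Fin j)) : Set (Perm α) :=
  {g | g ∈ G ∧ ∀ i, g (y i) = y (π i)}

/-- The pointwise stabiliser of a tuple. -/
def kp (y : Fin j ↪ α) : Subgroup (Perm α) where
  carrier := lifts G y 1
  one_mem' := ⟨G.one_mem, fun i => rfl⟩
  mul_mem' := fun {a b} ha hb => ⟨G.mul_mem ha.1 hb.1, fun i => by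
    rw [Perm.mul_apply, hb.2, ha.2]; rfl⟩
  inv_mem' := fun {a} ha => ⟨G.inv_mem ha.1, fun i => by
    rw [Perm.inv_def, Equiv.symm_apply_eq]; exact (ha.2 i).symm⟩

variable {G} {y : Fin j ↪ α} {π ρ : Perm (Fin j)} {g h : Perm α}

theorem mem_kp : g ∈ kp G y ↔ g ∈ G ∧ ∀ i, g (y i) = y i := Iff.rfl

theorem lifts_mul (hg : g ∈ lifts G y π) (hh : h ∈ lifts G y ρ) : g * h ∈ lifts G y (π * ρ) :=
  ⟨G.mul_mem hg.1 hh.1, fun i => by rw [Perm.mul_apply, hh.2, hg.2]; rfl⟩

theorem lifts_inv (hg : g ∈ lifts G y π) : g⁻¹ ∈ lifts G y π⁻¹ :=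
  ⟨G.inv_mem hg.1, fun i => by
    rw [Perm.inv_def, Equiv.symm_apply_eq, hg.2]; exact congrArg y (π.apply_symm_apply i).symm⟩

theorem lifts_pow (hg : g ∈ lifts G y π) (n : ℕ) : g ^ n ∈ lifts G y (π ^ n) := by
  induction n with
  | zero => exact (kp G y).one_mem
  | succ n ih => rw [pow_succ, pow_succ]; exact lifts_mul ih hg

theorem one_mem_lifts : (1 : Perm α) ∈ lifts G y 1 := (kp G y).one_mem

theorem kp_le : kp G y ≤ G := fun _ hg => hg.1

/-- A lift is determined up to the pointwise stabiliser. -/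
theorem inv_mul_mem (hg : g ∈ lifts G y π) (hh : h ∈ lifts G y π) : g⁻¹ * h ∈ kp G y := by
  have := lifts_mul (lifts_inv hg) hh
  rwa [inv_mul_cancel] at this

theorem mul_kp (hg : g ∈ lifts G y π) (hh : h ∈ kp G y) : g * h ∈ lifts G y π := by
  have := lifts_mul hg (show h ∈ lifts G y 1 from hh)
  rwa [mul_one] at this

/-- `lifts G y π` is a coset of the stabiliser. -/
noncomputable def cosetEquiv (hg : g ∈ lifts G y π) : kp G y ≃ lifts G y π where
  toFun h := ⟨g * h, mul_kp hg h.2⟩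
  invFun h := ⟨g⁻¹ * h, inv_mul_mem hg h.2⟩
  left_inv h := Subtype.ext (inv_mul_cancel_left g h)
  right_inv h := Subtype.ext (mul_inv_cancel_left g h)

theorem card_lifts (hg : g ∈ lifts G y π) : Nat.card (lifts G y π) = Nat.card (kp G y) :=
  (Nat.card_congr (cosetEquiv hg)).symm

theorem card_lifts_le (y : Fin j ↪ α) (π : Perm (Fin j)) (s : Finset (Perm α))
    (hs : ∀ x ∈ s, x ∈ lifts G y π) : s.card ≤ Nat.card (kp G y) := by
  rcases s.eq_empty_or_nonempty with rfl | ⟨g, hg⟩
  · simp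
  rw [← card_lifts (hs g hg), ← Nat.card_eq_finsetCard]
  exact Nat.card_le_card_of_injective (fun x : s => (⟨x.1, hs x x.2⟩ : lifts G y π)) fun a b e =>
    Subtype.ext (congrArg (fun z : lifts G y π => (z : Perm α)) e)

section Transitive

variable (hT : IsMultiplyPretransitive G α j)
include hT

theorem move (x y : Fin j ↪ α) : ∃ g ∈ G, ∀ i, g (x i) = y i := by
  obtain ⟨g, hg⟩ := hT.exists_smul_eq x y
  exact ⟨g, g.2, fun i => congrArg (fun f : Fin j ↪ α => f i) hg⟩

theorem lifts_nonempty (y : Fin j ↪ α) (π : Perm (Fin j)) : ∃ g, g ∈ lifts G y π :=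
  (move hT y (π.toEmbedding.trans y)).imp fun _ hg => ⟨hg.1, hg.2⟩

theorem card_kp_eq (x y : Fin j ↪ α) : Nat.card (kp G x) = Nat.card (kp G y) := by
  obtain ⟨g, hgG, hg⟩ := move hT x y
  refine Nat.card_congr
    { toFun := fun h => ⟨g * h * g⁻¹, G.mul_mem (G.mul_mem hgG h.2.1) (G.inv_mem hgG), fun i => ?_⟩
      invFun := fun h => ⟨g⁻¹ * h * g, G.mul_mem (G.mul_mem (G.inv_mem hgG) h.2.1) hgG, fun i => ?_⟩
      left_inv := fun h => Subtype.ext (show g⁻¹ * (g * (h : Perm α) * g⁻¹) * g = h by group)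
      right_inv := fun h => Subtype.ext (show g * (g⁻¹ * (h : Perm α) * g) * g⁻¹ = h by group) }
  · have e : g⁻¹ (y i) = x i := by rw [← hg]; exact g.symm_apply_apply _
    rw [Perm.mul_apply, Perm.mul_apply, e, h.2.2]; exact hg i
  · rw [Perm.mul_apply, Perm.mul_apply, hg, h.2.2, ← hg]; exact g.symm_apply_apply _

theorem card_group (y : Fin j ↪ α) :
    Nat.card G = (Fintype.card α).descFactorial j * Nat.card (kp G y) := by
  have hidx : (stabilizer G y).index = (Fintype.card α).descFactorial j := by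
    have h0 : (stabilizer G y).index = Nat.card (Fin j ↪ α) := by
      rw [index_stabilizer, ← Set.ncard_univ]
      congr 1
      exact Set.eq_univ_of_forall fun x => hT.exists_smul_eq y x
    rwa [Nat.card_eq_fintype_card, Fintype.card_embedding_eq, Fintype.card_fin] at h0
  have hcard : Nat.card (stabilizer G y) = Nat.card (kp G y) := Nat.card_congr
    { toFun := fun g => ⟨g.1.1, g.1.2, fun i => congrArg (fun f : Fin j ↪ α => f i) g.2⟩
      invFun := fun g => ⟨⟨g.1, g.2.1⟩, Function.Embedding.ext g.2.2⟩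
      left_inv := fun g => rfl
      right_inv := fun g => rfl }
  rw [← (stabilizer G y).card_mul_index, hidx, hcard, mul_comm]

end Transitive

theorem lift_sq_one (hodd : Odd (Nat.card (kp G y))) (hπ : π * π = 1) (hg : g ∈ lifts G y π) :
    g ^ Nat.card (kp G y) ∈ lifts G y π ∧ g ^ Nat.card (kp G y) * g ^ Nat.card (kp G y) = 1 := by
  have h1 := lifts_pow hg (Nat.card (kp G y))
  obtain ⟨r, hr⟩ := hodd
  refine ⟨?_, ?_⟩
  · have : π ^ Nat.card (kp G y) = π := by
      rw [hr, pow_succ, pow_mul, sq, hπ, one_pow, one_mul]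
    rwa [this] at h1
  · have h2 : g * g ∈ kp G y := by have := lifts_mul hg hg; rwa [hπ] at this
    have h3 : (⟨g * g, h2⟩ : kp G y) ^ Nat.card (kp G y) = 1 := pow_card_eq_one'
    rw [← (Commute.refl g).mul_pow]
    exact congrArg Subtype.val h3

/-- A lift of a permutation of order two can be chosen to be an involution. -/
theorem exists_sq_one (hT : IsMultiplyPretransitive G α j) (hodd : Odd (Nat.card (kp G y)))
    (hπ : π * π = 1) : ∃ x ∈ lifts G y π, x * x = 1 :=
  (lifts_nonempty hT y π).elim fun g hg => ⟨_, lift_sq_one hodd hπ hg⟩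

/-- A tuple with prescribed range. -/
theorem exists_tuple {s : Finset α} (hs : s.card = j) : ∃ y : Fin j ↪ α, ∀ x, x ∈ s ↔ ∃ i, y i = x := by
  refine ⟨((Fintype.equivFinOfCardEq (by rw [Fintype.card_coe, hs] : Fintype.card s = j)).symm.toEmbedding).trans
    (Function.Embedding.subtype (· ∈ s)), fun x => ⟨fun hx => ?_, ?_⟩⟩
  · exact ⟨Fintype.equivFinOfCardEq (by rw [Fintype.card_coe, hs] : Fintype.card s = j) ⟨x, hx⟩, by simp⟩
  · rintro ⟨i, rfl⟩
    exact Subtype.mem _

/-- In a group of odd tuple stabiliser an involution fixes fewer than `j` points. -/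
theorem card_fix_lt (hodd : ∀ y : Fin j ↪ α, Odd (Nat.card (kp G y))) (hg : g ∈ G) (h2 : g * g = 1)
    (h1 : g ≠ 1) : (fixF g).card < j := by
  by_contra hle
  push Not at hle
  obtain ⟨s, hsf, hs⟩ := Finset.exists_subset_card_eq hle
  obtain ⟨y, hy⟩ := exists_tuple hs
  have hgk : g ∈ kp G y := ⟨hg, fun i => mem_fixF.1 (hsf ((hy _).2 ⟨i, rfl⟩))⟩
  have h3 : (⟨g, hgk⟩ : kp G y) ^ Nat.card (kp G y) = 1 := pow_card_eq_one'
  obtain ⟨r, hr⟩ := hodd y
  have h4 : g ^ Nat.card (kp G y) = 1 := congrArg Subtype.val h3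
  rw [hr, pow_succ, pow_mul, sq, h2, one_pow, one_mul] at h4
  exact h1 h4

end Cfsg.Agent.LivingstoneWagner
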