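import Cfsg.Agent.Lib.LivingstoneWagner.Basic
import Cfsg.Agent.Lib.Perm.SharpDegrees

/-!
# Multiply transitive groups in which non-identity elements fix few points (owner: helper77)

`G` is `j`-transitive on `n` points and only the identity fixes more than `j` points; `e` is the
order of a tuple stabiliser and `m = n - j`. Double counting of pairs (involution, tuple) gives
* `m ≤ 2 e` for even `e`, `j ≥ 2` (`le_two_mul_of_even`);
* for odd `e`, `j ≥ 4`: `m ≤ 2 e` or `m ≤ 7` (`le_two_mul_or_le_seven`);
hence `m ≤ 2e`, or `m = 7` and `e = 1` (`bound`).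
-/

set_option autoImplicit false
set_option linter.unusedSectionVars false

open Equiv MulAction Finset

namespace Cfsg.Agent.LivingstoneWagner

variable {α : Type*} [Fintype α] [DecidableEq α] {j i : ℕ} {G : Subgroup (Perm α)}

/-- Only the identity fixes more than `j` points. -/
def Semi (G : Subgroup (Perm α)) (j : ℕ) : Prop := ∀ g ∈ G, g ≠ 1 → (fixF g).card ≤ j

theorem Semi.eq_one (h : Semi G j) {y : Fin j ↪ α} {b : α} (hb : ∀ k, y k ≠ b) {g : Perm α}
    (hg : g ∈ G) (hy : ∀ k, g (y k) = y k) (hgb : g b = b) : g = 1 := by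
  by_contra h1
  have h2 := h g hg h1
  have h3 : insert b (univ.map y) ⊆ fixF g := by
    intro x hx
    rw [mem_insert, mem_map] at hx
    rcases hx with rfl | ⟨k, -, rfl⟩
    · exact mem_fixF.2 hgb
    · exact mem_fixF.2 (hy k)
  have h4 := card_le_card h3
  rw [card_insert_of_notMem (by simpa using hb), card_map, card_univ, Fintype.card_fin] at h4
  omega

theorem card_moved (g : Perm α) :
    Nat.card {a : α // g a ≠ a} = Fintype.card α - (fixF g).card := by
  rw [Nat.card_eq_fintype_card, Fintype.card_subtype_compl, Fintype.card_subtype]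
  rfl

theorem card_emb_fix (g : Perm α) (i : ℕ) :
    Nat.card (Fin i ↪ {x : α // g x = x}) = (fixF g).card.descFactorial i := by
  rw [Nat.card_eq_fintype_card, Fintype.card_embedding_eq, Fintype.card_fin, Fintype.card_subtype]
  rfl

/-- The transposition of the first two positions. -/
def τ₁ (i : ℕ) : Perm (Fin (i + 2)) := swap 0 1

/-- The product of the transpositions of the first two and of the next two positions. -/
def τ₂ (i : ℕ) : Perm (Fin (i + 4)) := swap 0 1 * swap 2 3

theorem τ₁_sq : τ₁ i * τ₁ i = 1 := swap_mul_self _ _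

theorem τ₁_zero : τ₁ i 0 = 1 := swap_apply_left _ _

theorem τ₁_one : τ₁ i 1 = 0 := swap_apply_right _ _

theorem τ₁_rest (k : Fin i) : τ₁ i k.succ.succ = k.succ.succ :=
  swap_apply_of_ne_of_ne (Fin.succ_ne_zero _)
    (fun e => Fin.succ_ne_zero k (Fin.succ_injective _ (e.trans Fin.succ_zero_eq_one.symm)))

theorem four_vals : ((0 : Fin (i + 4)) : ℕ) = 0 ∧ ((1 : Fin (i + 4)) : ℕ) = 1 ∧
    ((2 : Fin (i + 4)) : ℕ) = 2 ∧ ((3 : Fin (i + 4)) : ℕ) = 3 :=
  ⟨rfl, Nat.mod_eq_of_lt (show 1 < i + 4 by omega), Nat.mod_eq_of_lt (show 2 < i + 4 by omega),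
    Nat.mod_eq_of_lt (show 3 < i + 4 by omega)⟩

theorem τ₂_apply :
    τ₂ i 0 = 1 ∧ τ₂ i 1 = 0 ∧ τ₂ i 2 = 3 ∧ τ₂ i 3 = 2 ∧
      ∀ k : Fin i, τ₂ i k.succ.succ.succ.succ = k.succ.succ.succ.succ := by
  obtain ⟨h0, h1, h2, h3⟩ := four_vals (i := i)
  refine ⟨?_, ?_, ?_, ?_, fun k => ?_⟩ <;>
    simp only [τ₂, Perm.mul_apply, Equiv.swap_apply_def, Fin.ext_iff, h0, h1, h2, h3, Fin.val_succ,
      apply_ite Fin.val] <;>
    (repeat' split) <;> first | omega | simp_all

theorem τ₂_sq : τ₂ i * τ₂ i = 1 := by
  obtain ⟨h0, h1, h2, h3, h4⟩ := τ₂_apply (i := i)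
  refine Equiv.ext fun k => ?_
  rw [Perm.mul_apply, Perm.one_apply]
  refine Fin.cases (by rw [h0, h1]) (fun k => ?_) k
  refine Fin.cases (by rw [Fin.succ_zero_eq_one, h1, h0]) (fun k => ?_) k
  refine Fin.cases (by rw [Fin.succ_zero_eq_one, Fin.succ_one_eq_two, h2, h3]) (fun k => ?_) k
  refine Fin.cases ?_ (fun k => by rw [h4, h4]) k
  have e : ((0 : Fin (i + 1)).succ.succ.succ : Fin (i + 4)) = 3 := by
    simp [Fin.ext_iff, Nat.mod_eq_of_lt]
  rw [e, h3, h2]

open Classical in
/-- Lower bound for the tuples on which an involution acts as `τ₁`. -/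
theorem tuples_one_ge {g : Perm α} (hg : g ∈ G) (h2 : g * g = 1) :
    (Fintype.card α - (fixF g).card) * (fixF g).card.descFactorial i ≤
      (univ.filter fun y : Fin (i + 2) ↪ α => g ∈ lifts G y (τ₁ i)).card := by
  rw [← card_moved, ← card_emb_fix, ← Nat.card_prod, ← Nat.card_eq_finsetCard]
  have hgg : ∀ x, g (g x) = x := fun x => by rw [← Perm.mul_apply, h2, Perm.one_apply]
  have hmv : ∀ a : {a : α // g a ≠ a}, ∀ x : {x : α // g x = x}, (x : α) ≠ a ∧ (x : α) ≠ g a :=
    fun a x => ⟨fun e => a.2 (e ▸ x.2), fun e => a.2 (g.injective (e ▸ x.2))⟩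
  let F : {a : α // g a ≠ a} × (Fin i ↪ {x : α // g x = x}) → (Fin (i + 2) ↪ α) := fun q =>
    ⟨Fin.cons (q.1 : α) (Fin.cons (g q.1) fun k => (q.2 k : α)), by
      refine Fin.cons_injective_iff.2 ⟨?_, Fin.cons_injective_iff.2 ⟨?_, Subtype.val_injective.comp q.2.injective⟩⟩
      · rintro ⟨k, hk⟩
        induction k using Fin.cases with
        | zero => exact q.1.2 hk
        | succ k => exact (hmv q.1 (q.2 k)).1 hk
      · rintro ⟨k, hk⟩
        exact (hmv q.1 (q.2 k)).2 hk⟩
  refine Nat.card_le_card_of_injective (fun q => ⟨F q, mem_filter.2 ⟨mem_univ _, hg, ?_⟩⟩) ?_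
  · intro k
    refine Fin.cases ?_ (fun k => Fin.cases ?_ (fun k => ?_) k) k
    · rw [τ₁_zero]; rfl
    · rw [Fin.succ_zero_eq_one, τ₁_one]; exact hgg _
    · rw [τ₁_rest]; exact (q.2 k).2
  · intro q q' h
    have h' : ∀ k, F q k = F q' k := fun k =>
      congrArg (fun z : {y // y ∈ univ.filter fun y : Fin (i + 2) ↪ α => g ∈ lifts G y (τ₁ i)} =>
        (z : Fin (i + 2) ↪ α) k) h
    exact Prod.ext (Subtype.ext (h' 0)) (Function.Embedding.ext fun k => Subtype.ext (h' k.succ.succ))

open Classical in
/-- Upper bound for the tuples on which an involution acts as `τ₁`. -/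
theorem tuples_one_le (g : Perm α) :
    (univ.filter fun y : Fin (i + 2) ↪ α => g ∈ lifts G y (τ₁ i)).card ≤
      (Fintype.card α - (fixF g).card) * (fixF g).card.descFactorial i := by
  rw [← card_moved, ← card_emb_fix, ← Nat.card_prod, ← Nat.card_eq_finsetCard]
  have hy : ∀ y : {y // y ∈ univ.filter fun y : Fin (i + 2) ↪ α => g ∈ lifts G y (τ₁ i)},
      g (y.1 0) = y.1 1 ∧ ∀ k : Fin i, g (y.1 k.succ.succ) = y.1 k.succ.succ := fun y => by
    have h := (mem_filter.1 y.2).2.2
    exact ⟨by rw [h, τ₁_zero], fun k => by rw [h, τ₁_rest]⟩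
  refine Nat.card_le_card_of_injective
    (fun y => (⟨y.1 0, fun e => by
        have := (hy y).1.symm.trans e
        exact absurd (y.1.injective this) (by simp)⟩,
      ⟨fun k => ⟨y.1 k.succ.succ, (hy y).2 k⟩, fun a b e =>
        Fin.succ_injective _ (Fin.succ_injective _ (y.1.injective (congrArg Subtype.val e)))⟩)) ?_
  intro y y' h
  have h0 : y.1 0 = y'.1 0 := congrArg Subtype.val (congrArg Prod.fst h)
  refine Subtype.ext (Function.Embedding.ext fun k => Fin.cases h0 (fun k => Fin.cases ?_ (fun k => ?_) k) k)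
  · rw [Fin.succ_zero_eq_one, ← (hy y).1, ← (hy y').1, h0]
  · exact congrArg Subtype.val (DFunLike.congr_fun (congrArg Prod.snd h) k)

open Classical in
/-- Lower bound for the tuples on which an involution acts as `τ₂`. -/
theorem tuples_two_ge {g : Perm α} (hg : g ∈ G) (h2 : g * g = 1) :
    (Fintype.card α - (fixF g).card) * (Fintype.card α - (fixF g).card - 2) *
        (fixF g).card.descFactorial i ≤
      (univ.filter fun y : Fin (i + 4) ↪ α => g ∈ lifts G y (τ₂ i)).card := by
  have hgg : ∀ x, g (g x) = x := fun x => by rw [← Perm.mul_apply, h2, Perm.one_apply]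
  set S := (Σ a : {a : α // g a ≠ a}, {c : α // g c ≠ c ∧ c ≠ a ∧ c ≠ g a}) ×
    (Fin i ↪ {x : α // g x = x}) with hS
  have hcard : (Fintype.card α - (fixF g).card) * (Fintype.card α - (fixF g).card - 2) *
      (fixF g).card.descFactorial i = Nat.card S := by
    rw [hS, Nat.card_prod, Nat.card_sigma, card_emb_fix, ← card_moved]
    congr 1
    rw [Finset.sum_congr rfl (g := fun _ => Nat.card {a : α // g a ≠ a} - 2), sum_const, card_univ,
      smul_eq_mul, ← Nat.card_eq_fintype_card]
    intro a _
    rw [Nat.card_eq_fintype_card, Nat.card_eq_fintype_card, Fintype.card_subtype, Fintype.card_subtype]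
    have hne : (a : α) ≠ g a := Ne.symm a.2
    have e : (univ.filter fun c : α => g c ≠ c ∧ c ≠ a ∧ c ≠ g a) =
        (univ.filter fun c : α => g c ≠ c) \ {(a : α), g a} := by
      ext c; simp
    rw [e, card_sdiff_of_subset, card_pair hne]
    intro x hx
    simp only [Finset.mem_insert, Finset.mem_singleton] at hx
    rcases hx with rfl | rfl
    · simpa using a.2
    · simpa using fun e => a.2 (g.injective e)
  rw [hcard, ← Nat.card_eq_finsetCard]
  have hmv : ∀ a : {a : α // g a ≠ a}, ∀ x : {x : α // g x = x}, (x : α) ≠ a ∧ (x : α) ≠ g a :=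
    fun a x => ⟨fun e => a.2 (e ▸ x.2), fun e => a.2 (g.injective (e ▸ x.2))⟩
  let F : S → (Fin (i + 4) ↪ α) := fun q =>
    ⟨Fin.cons (q.1.1 : α) (Fin.cons (g q.1.1)
      (Fin.cons (q.1.2 : α) (Fin.cons (g q.1.2) fun k => (q.2 k : α)))), by
      obtain ⟨hc, hca, hcg⟩ := q.1.2.2
      have hga : g q.1.2 ≠ (q.1.1 : α) := fun e => hcg ((hgg _).symm.trans (congrArg g e))
      have hgb : g q.1.2 ≠ g q.1.1 := fun e => hca (g.injective e)
      refine Fin.cons_injective_iff.2 ⟨?_, Fin.cons_injective_iff.2 ⟨?_, Fin.cons_injective_iff.2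
        ⟨?_, Fin.cons_injective_iff.2 ⟨?_, Subtype.val_injective.comp q.2.injective⟩⟩⟩⟩
      · rintro ⟨k, hk⟩
        induction k using Fin.cases with
        | zero => exact q.1.1.2 hk
        | succ k =>
          induction k using Fin.cases with
          | zero => exact hca hk
          | succ k =>
            induction k using Fin.cases with
            | zero => exact hga hk
            | succ k => exact (hmv q.1.1 (q.2 k)).1 hk
      · rintro ⟨k, hk⟩
        induction k using Fin.cases with
        | zero => exact hcg hk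
        | succ k =>
          induction k using Fin.cases with
          | zero => exact hgb hk
          | succ k => exact (hmv q.1.1 (q.2 k)).2 hk
      · rintro ⟨k, hk⟩
        induction k using Fin.cases with
        | zero => exact hc hk
        | succ k => exact (hmv ⟨q.1.2, hc⟩ (q.2 k)).1 hk
      · rintro ⟨k, hk⟩
        exact (hmv ⟨q.1.2, hc⟩ (q.2 k)).2 hk⟩
  obtain ⟨t0, t1, t2, t3, t4⟩ := τ₂_apply (i := i)
  refine Nat.card_le_card_of_injective (fun q => ⟨F q, mem_filter.2 ⟨mem_univ _, hg, ?_⟩⟩) ?_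
  · intro k
    refine Fin.cases ?_ (fun k => Fin.cases ?_ (fun k => Fin.cases ?_ (fun k => Fin.cases ?_ (fun k => ?_) k) k) k) k
    · rw [t0]; rfl
    · rw [Fin.succ_zero_eq_one, t1]; exact hgg _
    · rw [Fin.succ_zero_eq_one, Fin.succ_one_eq_two, t2]; rfl
    · have e : ((0 : Fin (i + 1)).succ.succ.succ : Fin (i + 4)) = 3 := by
        simp [Fin.ext_iff, Nat.mod_eq_of_lt]
      rw [e, t3]; exact hgg _
    · rw [t4]; exact (q.2 k).2
  · intro q q' h
    have h' : ∀ k, F q k = F q' k := fun k =>
      congrArg (fun z : {y // y ∈ univ.filter fun y : Fin (i + 4) ↪ α => g ∈ lifts G y (τ₂ i)} =>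
        (z : Fin (i + 4) ↪ α) k) h
    obtain ⟨⟨a, c⟩, r⟩ := q
    obtain ⟨⟨a', c'⟩, r'⟩ := q'
    have ha : a = a' := Subtype.ext (h' 0)
    subst ha
    have hc : c = c' := Subtype.ext (h' 2)
    subst hc
    exact Prod.ext rfl (Function.Embedding.ext fun k => Subtype.ext (h' k.succ.succ.succ.succ))

open Classical in
/-- Even tuple stabiliser. -/
theorem le_two_mul_of_even (hT : IsMultiplyPretransitive G α (i + 2)) (hs : Semi G (i + 2))
    (hn : i + 2 ≤ Fintype.card α) (y : Fin (i + 2) ↪ α) (he : Even (Nat.card (kp G y))) :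
    Fintype.card α - (i + 2) ≤ 2 * Nat.card (kp G y) := by
  set e := Nat.card (kp G y)
  set n := Fintype.card α with hn'
  set J := univ.filter fun g : Perm α => g ∈ G ∧ g * g = 1 ∧ g ≠ 1 ∧ (fixF g).card = i + 2
  have hJ : n.choose (i + 2) ≤ J.card := by
    rw [hn', ← card_univ (α := α), ← card_powersetCard]
    refine card_le_card_of_surjOn fixF fun s hs' => ?_
    obtain ⟨x, hx⟩ := exists_tuple (mem_powersetCard.1 (mem_coe.1 hs')).2
    have he' : 2 ∣ Nat.card (kp G x) := by rw [card_kp_eq hT x y]; exact he.two_dvd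
    have := Fact.mk Nat.prime_two
    obtain ⟨g, hg⟩ := exists_prime_orderOf_dvd_card' 2 he'
    have hg1 : (g : Perm α) ≠ 1 := fun e => by
      rw [show g = 1 from Subtype.ext e, orderOf_one] at hg; omega
    have hg2 : (g : Perm α) * g = 1 := by
      have h := pow_orderOf_eq_one g; rw [hg, sq] at h; exact congrArg Subtype.val h
    have hsub : s ⊆ fixF (g : Perm α) := fun z hz => by
      obtain ⟨k, rfl⟩ := (hx z).1 hz
      exact mem_fixF.2 (g.2.2 k)
    have hc := (mem_powersetCard.1 (mem_coe.1 hs')).2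
    have h1 := hs g g.2.1 hg1
    have h2 := card_le_card hsub
    exact ⟨g, mem_coe.2 (mem_filter.2 ⟨mem_univ _, g.2.1, hg2, hg1, by omega⟩),
      (eq_of_subset_of_card_le hsub (by omega)).symm⟩
  have h := Finset.card_mul_le_card_mul (s := J) (t := (univ : Finset (Fin (i + 2) ↪ α)))
    (fun g y => g ∈ lifts G y (τ₁ i)) (m := (n - (i + 2)) * (i + 2).descFactorial i) (n := e)
    (fun g hg => by
      obtain ⟨-, hgG, hg2, -, hgf⟩ := mem_filter.1 hg
      have := tuples_one_ge (i := i) hgG hg2
      rwa [hgf] at this)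
    (fun x _ => by
      refine le_trans (card_lifts_le x (τ₁ i) _ fun g hg => ((mem_bipartiteBelow _).1 hg).2) ?_
      rw [card_kp_eq hT x y])
  rw [card_univ, Fintype.card_embedding_eq, Fintype.card_fin,
    Nat.descFactorial_eq_factorial_mul_choose (Fintype.card α) (i + 2)] at h
  have hfac : 2 * (i + 2).descFactorial i = (i + 2).factorial := by
    have := Nat.factorial_mul_descFactorial (show i ≤ i + 2 by omega)
    simpa using this
  rw [← hfac] at h
  have hpos : 0 < n.choose (i + 2) * (i + 2).descFactorial i :=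
    Nat.mul_pos (Nat.choose_pos hn) ((Nat.descFactorial_pos).2 (by omega))
  refine Nat.le_of_mul_le_mul_left ?_ hpos
  calc n.choose (i + 2) * (i + 2).descFactorial i * (n - (i + 2))
      = n.choose (i + 2) * ((n - (i + 2)) * (i + 2).descFactorial i) := by ring
    _ ≤ J.card * ((n - (i + 2)) * (i + 2).descFactorial i) := Nat.mul_le_mul_right _ hJ
    _ ≤ 2 * (i + 2).descFactorial i * n.choose (i + 2) * e := h
    _ = n.choose (i + 2) * (i + 2).descFactorial i * (2 * e) := by ring

open Classical in
/-- Odd tuple stabiliser. -/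
theorem le_two_mul_or_le_seven (hT : IsMultiplyPretransitive G α (i + 4)) (hs : Semi G (i + 4))
    (hn : i + 4 ≤ Fintype.card α) (y : Fin (i + 4) ↪ α) (he : Odd (Nat.card (kp G y))) :
    Fintype.card α - (i + 4) ≤ 2 * Nat.card (kp G y) ∨
      (Odd (Fintype.card α - (i + 4)) ∧ Fintype.card α - (i + 4) ≤ 7) := by
  set e := Nat.card (kp G y) with he0
  set n := Fintype.card α with hn'
  have hodd : ∀ x : Fin (i + 4) ↪ α, Odd (Nat.card (kp G x)) := fun x => by rwa [card_kp_eq hT x y]
  have hinv : ∀ g ∈ G, g * g = 1 → g ≠ 1 → (fixF g).card < i + 4 := fun g hg h2 h1 =>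
    card_fix_lt hodd hg h2 h1
  -- number of fixed points of a lifted transposition
  have hlift : ∀ x : Fin (i + 4) ↪ α, ∀ g ∈ lifts G x (τ₁ (i + 2)), g * g = 1 →
      g ≠ 1 ∧ (fixF g).card = if Even (n - (i + 4)) then i + 2 else i + 3 := by
    intro x g hg h2
    have h1 : g ≠ 1 := fun e => by
      have := hg.2 0
      rw [τ₁_zero, e] at this
      exact absurd (x.injective this) (by simp)
    have h3 := hinv g hg.1 h2 h1
    have h4 : (univ.map ⟨fun k : Fin (i + 2) => x k.succ.succ,
        fun a b e => Fin.succ_injective _ (Fin.succ_injective _ (x.injective e))⟩) ⊆ fixF g := by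
      intro z hz
      obtain ⟨k, -, rfl⟩ := mem_map.1 hz
      exact mem_fixF.2 ((hg.2 _).trans (congrArg x (τ₁_rest k)))
    have h5 := card_le_card h4
    rw [card_map, card_univ, Fintype.card_fin] at h5
    have h6 := fixF_modEq h2
    unfold Nat.ModEq at h6
    refine ⟨h1, ?_⟩
    split_ifs with hev
    · rw [Nat.even_iff] at hev; omega
    · rw [Nat.even_iff] at hev; omega
  set f := if Even (n - (i + 4)) then i + 2 else i + 3 with hf
  set J := univ.filter fun g : Perm α => g ∈ G ∧ g * g = 1 ∧ g ≠ 1 ∧ (fixF g).card = f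
  set γ := if Even (n - (i + 4)) then 1 else e with hγ
  set T := (univ : Finset (Fin (i + 4) ↪ α)) with hT'
  have h1 : T.card * γ ≤ J.card * ((n - f) * f.descFactorial (i + 2)) := by
    refine Finset.card_mul_le_card_mul' (fun g y => g ∈ lifts G y (τ₁ (i + 2))) (fun x _ => ?_) (fun g hg => ?_)
    · obtain ⟨g, hg, hg2⟩ := exists_sq_one hT (hodd x) (τ₁_sq (i := i + 2))
      obtain ⟨hg1, hgf⟩ := hlift x g hg hg2
      have hgJ : g ∈ J.bipartiteBelow (fun g y => g ∈ lifts G y (τ₁ (i + 2))) x :=
        (mem_bipartiteBelow _).2 ⟨mem_filter.2 ⟨mem_univ _, hg.1, hg2, hg1, hgf⟩, hg⟩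
      rw [hγ]
      split_ifs with hev
      · exact card_pos.2 ⟨g, hgJ⟩
      rw [he0, ← card_kp_eq hT x y, ← Nat.card_eq_finsetCard]
      refine Nat.card_le_card_of_injective (fun k => ⟨(k : Perm α) * g * (k : Perm α)⁻¹, ?_⟩) ?_
      · have hm : (k : Perm α) * g * (k : Perm α)⁻¹ ∈ lifts G x (τ₁ (i + 2)) := by
          have := lifts_mul (lifts_mul (show (k : Perm α) ∈ lifts G x 1 from k.2) hg) (lifts_inv (show (k : Perm α) ∈ lifts G x 1 from k.2))
          simpa using this
        have hm2 : (k : Perm α) * g * (k : Perm α)⁻¹ * ((k : Perm α) * g * (k : Perm α)⁻¹) = 1 := by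
          rw [show (k : Perm α) * g * (k : Perm α)⁻¹ * ((k : Perm α) * g * (k : Perm α)⁻¹) =
            (k : Perm α) * (g * g) * (k : Perm α)⁻¹ by group, hg2]; group
        obtain ⟨a1, a2⟩ := hlift x _ hm hm2
        exact (mem_bipartiteBelow _).2 ⟨mem_filter.2 ⟨mem_univ _, hm.1, hm2, a1, a2⟩, hm⟩
      · intro k k' hk
        have hk' : (k : Perm α) * g * (k : Perm α)⁻¹ = (k' : Perm α) * g * (k' : Perm α)⁻¹ :=
          congrArg Subtype.val hk
        set v := ((k'⁻¹ * k : kp G x) : Perm α) with hv
        have hvc : v * g = g * v := by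
          calc v * g = (k' : Perm α)⁻¹ * ((k : Perm α) * g * (k : Perm α)⁻¹) * (k : Perm α) := by
                rw [hv, Subgroup.coe_mul, Subgroup.coe_inv]; group
            _ = g * v := by rw [hk', hv, Subgroup.coe_mul, Subgroup.coe_inv]; group
        -- `v` fixes the further fixed point of `g`
        obtain ⟨b, hb, hbr⟩ := exists_mem_notMem_of_card_lt_card
          (s := univ.map ⟨fun k : Fin (i + 2) => x k.succ.succ,
            fun a b e => Fin.succ_injective _ (Fin.succ_injective _ (x.injective e))⟩) (t := fixF g) (by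
          rw [card_map, card_univ, Fintype.card_fin, hgf, hf, if_neg hev]; omega)
        have hbx : ∀ c, x c ≠ b := by
          intro c hc
          subst hc
          induction c using Fin.cases with
          | zero =>
            have := hg.2 0
            rw [τ₁_zero, mem_fixF.1 hb] at this
            exact absurd (x.injective this) (by simp)
          | succ c =>
            induction c using Fin.cases with
            | zero =>
              have := hg.2 1
              rw [τ₁_one, ← Fin.succ_zero_eq_one, mem_fixF.1 hb] at this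
              exact absurd (x.injective this) (by simp)
            | succ c => exact hbr (mem_map.2 ⟨c, mem_univ _, rfl⟩)
        have hvb : v b ∈ fixF g := by
          rw [mem_fixF, ← Perm.mul_apply, ← hvc, Perm.mul_apply, mem_fixF.1 hb]
        have hvb' : v b = b := by
          by_contra hne
          have hsub : insert (v b) (insert b (univ.map ⟨fun k : Fin (i + 2) => x k.succ.succ,
              fun a b e => Fin.succ_injective _ (Fin.succ_injective _ (x.injective e))⟩)) ⊆ fixF g := by
            intro z hz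
            simp only [Finset.mem_insert, mem_map, mem_univ, true_and] at hz
            rcases hz with rfl | rfl | ⟨c, rfl⟩
            exacts [hvb, hb, mem_fixF.2 ((hg.2 _).trans (congrArg x (τ₁_rest c)))]
          have hvr : v b ∉ univ.map ⟨fun k : Fin (i + 2) => x k.succ.succ,
              fun a b e => Fin.succ_injective _ (Fin.succ_injective _ (x.injective e))⟩ := by
            rw [mem_map]
            rintro ⟨c, -, hc⟩
            have : v (x c.succ.succ) = v b := ((k'⁻¹ * k).2.2 _).trans hc
            exact hbx _ (v.injective this)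
          have := card_le_card hsub
          rw [card_insert_of_notMem (by simp only [Finset.mem_insert, not_or]; exact ⟨hne, hvr⟩),
            card_insert_of_notMem hbr, card_map, card_univ, Fintype.card_fin, hgf, hf, if_neg hev] at this
          omega
        have hv1 : v = 1 := hs.eq_one hbx (k'⁻¹ * k).2.1 (fun c => (k'⁻¹ * k).2.2 c) hvb'
        exact (inv_mul_eq_one.1 (show k'⁻¹ * k = 1 from Subtype.ext hv1)).symm
    · obtain ⟨-, -, -, -, hgf⟩ := mem_filter.1 hg
      have := tuples_one_le (G := G) (i := i + 2) g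
      rwa [hgf] at this
  have h2 : J.card * ((n - f) * (n - f - 2) * f.descFactorial i) ≤ T.card * e := by
    refine Finset.card_mul_le_card_mul (fun g y => g ∈ lifts G y (τ₂ i)) (fun g hg => ?_) (fun x _ => ?_)
    · obtain ⟨-, hgG, hg2, -, hgf⟩ := mem_filter.1 hg
      have := tuples_two_ge (i := i) hgG hg2
      rwa [hgf] at this
    · refine le_trans (card_lifts_le x (τ₂ i) _ fun g hg => ((mem_bipartiteBelow _).1 hg).2) ?_
      rw [card_kp_eq hT x y]
  have hTpos : 0 < T.card := card_pos.2 ⟨y, mem_univ _⟩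
  have key : γ * (n - f - 2) * f.descFactorial i ≤ e * f.descFactorial (i + 2) := by
    refine Nat.le_of_mul_le_mul_left ?_ hTpos
    calc T.card * (γ * (n - f - 2) * f.descFactorial i)
        = T.card * γ * ((n - f - 2) * f.descFactorial i) := by ring
      _ ≤ J.card * ((n - f) * f.descFactorial (i + 2)) * ((n - f - 2) * f.descFactorial i) :=
          Nat.mul_le_mul_right _ h1
      _ = J.card * ((n - f) * (n - f - 2) * f.descFactorial i) * f.descFactorial (i + 2) := by ring
      _ ≤ T.card * e * f.descFactorial (i + 2) := Nat.mul_le_mul_right _ h2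
      _ = T.card * (e * f.descFactorial (i + 2)) := by ring
  rw [hf, hγ] at key
  split_ifs at key with hev
  · left
    have hfac : (i + 2).descFactorial (i + 2) = 2 * (i + 2).descFactorial i := by
      rw [Nat.descFactorial_self, ← Nat.factorial_mul_descFactorial (show i ≤ i + 2 by omega)]
      simp
    rw [hfac] at key
    have hpos : 0 < (i + 2).descFactorial i := Nat.descFactorial_pos.2 (by omega)
    have h3 : n - (i + 2) - 2 ≤ 2 * e := Nat.le_of_mul_le_mul_right
      (by rw [one_mul] at key; rw [mul_comm 2 e, mul_assoc]; exact key) hpos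
    omega
  · right
    have hfac : (i + 3).descFactorial (i + 2) = 6 * (i + 3).descFactorial i := by
      rw [Nat.descFactorial_succ, Nat.descFactorial_succ, show i + 3 - i = 3 by omega,
        show i + 3 - (i + 1) = 2 by omega]
      ring
    rw [hfac] at key
    have hpos : 0 < e * (i + 3).descFactorial i :=
      Nat.mul_pos Nat.card_pos (Nat.descFactorial_pos.2 (by omega))
    have h3 : n - (i + 3) - 2 ≤ 6 := Nat.le_of_mul_le_mul_left
      (by calc e * (i + 3).descFactorial i * (n - (i + 3) - 2)
            = e * (n - (i + 3) - 2) * (i + 3).descFactorial i := by ring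
          _ ≤ e * (6 * (i + 3).descFactorial i) := key
          _ = e * (i + 3).descFactorial i * 6 := by ring) hpos
    rw [Nat.not_even_iff_odd] at hev
    exact ⟨hev, by rcases hev with ⟨r, hr⟩; omega⟩

/-- The tuple stabiliser acts freely outside the tuple. -/
theorem kp_dvd (hs : Semi G j) (hn : j ≤ Fintype.card α) (y : Fin j ↪ α) :
    Nat.card (kp G y) ∣ Fintype.card α - j := by
  classical
  let X : SubMulAction (kp G y) α :=
    { carrier := {x | ∀ k, y k ≠ x}
      smul_mem' := fun g x hx k e => hx k ((g : Perm α).injective ((g.2.2 k).trans e)) }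
  have hfree : ∀ x : X, stabilizer (kp G y) x = ⊥ := fun x => (Subgroup.eq_bot_iff_forall _).2
    fun g hg => Subtype.ext (hs.eq_one x.2 g.2.1 g.2.2 (congrArg Subtype.val hg))
  have := Fintype.ofFinite (orbitRel.Quotient (kp G y) X)
  have hX : Nat.card X = Fintype.card α - j := by
    change Nat.card {x : α // ∀ k, y k ≠ x} = _
    rw [Nat.card_eq_fintype_card, Fintype.card_subtype,
      show (univ.filter fun x : α => ∀ k, y k ≠ x) = (univ.map y)ᶜ by ext x; simp,
      card_compl, card_map, card_univ, Fintype.card_fin]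
  rw [← hX, Nat.card_congr (selfEquivSigmaOrbitsQuotientStabilizer (kp G y) X), Nat.card_sigma]
  exact dvd_sum fun ω _ => by rw [← Subgroup.index, hfree, Subgroup.index_bot]

/-- **The dichotomy.** -/
theorem bound (hj : 4 ≤ j) (hn : j ≤ Fintype.card α) (hT : IsMultiplyPretransitive G α j) (hs : Semi G j)
    (y : Fin j ↪ α) :
    Fintype.card α - j ≤ 2 * Nat.card (kp G y) ∨
      (Fintype.card α - j = 7 ∧ Nat.card (kp G y) = 1 ∧ j ≤ 5) := by
  obtain ⟨i, rfl⟩ : ∃ i, j = i + 4 := ⟨j - 4, by omega⟩
  have hpos : 0 < Nat.card (kp G y) := Nat.card_pos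
  rcases Nat.even_or_odd (Nat.card (kp G y)) with he | he
  · exact Or.inl (le_two_mul_of_even (i := i + 2) hT hs hn y he)
  rcases le_two_mul_or_le_seven hT hs hn y he with h | ⟨hmodd, hm7⟩
  · exact Or.inl h
  by_cases hle : Fintype.card α - (i + 4) ≤ 2 * Nat.card (kp G y)
  · exact Or.inl hle
  right
  obtain ⟨t, ht⟩ := kp_dvd hs hn y
  set e := Nat.card (kp G y) with he'
  have he1 : e = 1 := by
    have ht7 : t ≤ 7 := le_trans (Nat.le_mul_of_pos_left t hpos) (ht ▸ hm7)
    have he7 : e ≤ 7 := by
      rcases Nat.eq_zero_or_pos t with rfl | htp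
      · omega
      · exact le_trans (Nat.le_mul_of_pos_right e htp) (ht ▸ hm7)
    rw [Nat.odd_iff] at he hmodd
    interval_cases t <;> omega
  have hsharp : ∀ x : Fin (i + 4) ↪ α, stabilizer G x = ⊥ := by
    intro x
    have h1 : Nat.card (kp G x) = 1 := by rw [card_kp_eq hT x y]; exact he1
    rw [Subgroup.eq_bot_iff_forall]
    intro g hg
    have hm : (g : Perm α) ∈ kp G x := ⟨g.2, fun k => congrArg (fun f : Fin (i + 4) ↪ α => f k) hg⟩
    have : (⟨g, hm⟩ : kp G x) = 1 := (Nat.card_eq_one_iff_unique.1 h1).1.elim _ _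
    exact Subtype.ext (congrArg Subtype.val this :)
  have hX : i + 4 ≤ Nat.card α := by rwa [Nat.card_eq_fintype_card]
  rw [Nat.odd_iff] at hmodd
  rcases (by omega : i = 0 ∨ i = 1 ∨ 2 ≤ i) with rfl | rfl | hi
  · have := Perm.sharply_four_degree hT hsharp hX
    rw [Nat.card_eq_fintype_card] at this
    exact ⟨by omega, he1, by omega⟩
  · have := Perm.sharply_five_degree hT hsharp hX
    rw [Nat.card_eq_fintype_card] at this
    exact ⟨by omega, he1, by omega⟩
  · have := Perm.sharply_large_degree (G := G) (by omega : 6 ≤ i + 4) hX hT hsharp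
    rw [Nat.card_eq_fintype_card] at this
    omega

end Cfsg.Agent.LivingstoneWagner
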