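import Cfsg.Agent.Lib.LivingstoneWagner.Induced

/-!
# Homogeneous groups and their induced groups (owner: helper77)
-/

set_option autoImplicit false
set_option linter.unusedSectionVars false

open Equiv MulAction Finset
open scoped Pointwise

namespace Cfsg.Agent.LivingstoneWagner

variable {α : Type*} [Fintype α] [DecidableEq α] {j k : ℕ} {G : Subgroup (Perm α)}

/-- Transitive on `k`-sets. -/
def Homog (G : Subgroup (Perm α)) (k : ℕ) : Prop :=
  ∀ s t : Finset α, s.card = k → t.card = k → ∃ g ∈ G, ∀ x, g x ∈ t ↔ x ∈ s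

theorem homog_of_pretransitive (h : IsPretransitive G (Set.powersetCard α k)) : Homog G k := by
  intro s t hs ht
  obtain ⟨g, hg⟩ := h.exists_smul_eq ⟨s, hs⟩ ⟨t, ht⟩
  have hst : g • s = t := congrArg Subtype.val hg
  refine ⟨g, g.2, fun x => ?_⟩
  rw [← hst]
  exact Finset.smul_mem_smul_finset_iff g

theorem transitive_of_pretransitive_one (h : IsPretransitive G (Set.powersetCard α 1)) :
    IsMultiplyPretransitive G α 1 := by
  refine is_one_pretransitive_iff.2 ⟨fun x y => ?_⟩
  obtain ⟨g, hgG, hg⟩ := homog_of_pretransitive h {x} {y} (card_singleton x) (card_singleton y)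
  exact ⟨⟨g, hgG⟩, Finset.mem_singleton.1 ((hg x).2 (Finset.mem_singleton_self x))⟩

theorem Homog.conj {s t : Finset α} {g : Perm α} (hg : g ∈ G) (h : ∀ x, g x ∈ t ↔ x ∈ s)
    (x : α) : g⁻¹ x ∈ s ↔ x ∈ t := by
  rw [← h, Perm.inv_def, Equiv.apply_symm_apply]

/-- Pointwise stabilisers of `k`-sets have one order. -/
theorem Homog.card_fixing (h : Homog G k) {s t : Finset α} (hs : s.card = k) (ht : t.card = k) :
    Nat.card (fixingSubgroup G (s : Set α)) = Nat.card (fixingSubgroup G (t : Set α)) := by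
  obtain ⟨g, hg, hgst⟩ := h s t hs ht
  set g' : G := ⟨g, hg⟩
  refine Nat.card_congr
    { toFun := fun a => ⟨g' * a * g'⁻¹, (mem_fixingSubgroup_iff _).2 fun x hx => ?_⟩
      invFun := fun a => ⟨g'⁻¹ * a * g', (mem_fixingSubgroup_iff _).2 fun x hx => ?_⟩
      left_inv := fun a => Subtype.ext (show g'⁻¹ * (g' * (a : G) * g'⁻¹) * g' = a by group)
      right_inv := fun a => Subtype.ext (show g' * (g'⁻¹ * (a : G) * g') * g'⁻¹ = a by group) }
  · rw [mul_smul, mul_smul, (mem_fixingSubgroup_iff _).1 a.2 (g'⁻¹ • x)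
      ((Homog.conj hg hgst x).2 hx : g⁻¹ x ∈ s), smul_inv_smul]
  · rw [mul_smul, mul_smul, (mem_fixingSubgroup_iff _).1 a.2 (g' • x) ((hgst x).2 hx : g x ∈ t),
      inv_smul_smul]

/-- Induced groups on `k`-sets correspond. -/
theorem Homog.ind_congr (h : Homog G k) {s t : Finset α} (hs : s.card = k) (ht : t.card = k) :
    ∃ ψ : s ≃ t, Ind G t = (Ind G s).map ψ.permCongrHom.toMonoidHom := by
  obtain ⟨g, hg, hgst⟩ := h s t hs ht
  let ψ : s ≃ t :=
    { toFun := fun x => ⟨g x, (hgst x).2 x.2⟩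
      invFun := fun x => ⟨g⁻¹ x, (Homog.conj hg hgst x).2 x.2⟩
      left_inv := fun x => Subtype.ext (g.symm_apply_apply x)
      right_inv := fun x => Subtype.ext (g.apply_symm_apply x) }
  refine ⟨ψ, ?_⟩
  ext σ
  constructor
  · rintro ⟨a, ha, haσ⟩
    refine ⟨ψ.symm.permCongr σ, ⟨g⁻¹ * a * g, G.mul_mem (G.mul_mem (G.inv_mem hg) ha) hg, fun x => ?_⟩, ?_⟩
    · have h1 : a (g x) = σ (ψ x) := haσ (ψ x)
      rw [Perm.mul_apply, Perm.mul_apply, h1]
      rfl
    · refine Equiv.ext fun x => ?_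
      simp [Equiv.permCongrHom, Equiv.permCongr_apply]
  · rintro ⟨τ, ⟨a, ha, haτ⟩, rfl⟩
    refine ⟨g * a * g⁻¹, G.mul_mem (G.mul_mem hg ha) (G.inv_mem hg), fun x => ?_⟩
    have h1 : a (g⁻¹ x) = τ (ψ.symm x) := haτ (ψ.symm x)
    rw [Perm.mul_apply, Perm.mul_apply, h1]
    rfl

theorem Homog.alternating_le (h : Homog G k) {s t : Finset α} (hs : s.card = k) (ht : t.card = k)
    (hA : alternatingGroup s ≤ Ind G s) : alternatingGroup t ≤ Ind G t := by
  obtain ⟨ψ, hψ⟩ := h.ind_congr hs ht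
  rw [hψ]
  intro σ hσ
  refine ⟨ψ.symm.permCongr σ, hA ?_, Equiv.ext fun x => by simp [Equiv.permCongrHom, Equiv.permCongr_apply]⟩
  rw [Perm.mem_alternatingGroup, Perm.sign_permCongr]
  exact Perm.mem_alternatingGroup.1 hσ

theorem Homog.ind_top (h : Homog G k) {s t : Finset α} (hs : s.card = k) (ht : t.card = k)
    (hA : Ind G s = ⊤) : Ind G t = ⊤ := by
  obtain ⟨ψ, hψ⟩ := h.ind_congr hs ht
  rw [hψ, hA, Subgroup.map_top_of_surjective _ ψ.permCongrHom.surjective]

theorem Homog.exists_sign (h : Homog G k) {s t : Finset α} (hs : s.card = k) (ht : t.card = k)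
    (hA : ∃ σ ∈ Ind G s, Perm.sign σ = -1) : ∃ σ ∈ Ind G t, Perm.sign σ = -1 := by
  obtain ⟨ψ, hψ⟩ := h.ind_congr hs ht
  obtain ⟨σ, hσ, hs⟩ := hA
  refine ⟨ψ.permCongr σ, hψ ▸ ⟨σ, hσ, rfl⟩, ?_⟩
  rw [Perm.sign_permCongr, hs]

/-- Full induced groups on `k`-sets give `k`-transitivity. -/
theorem transitive_of_ind_top (h : Homog G k) (hfull : ∀ s : Finset α, s.card = k → Ind G s = ⊤) :
    IsMultiplyPretransitive G α k := by
  rw [isMultiplyPretransitive_iff]
  intro x y
  obtain ⟨g, hg, hgxy⟩ := h (univ.map x) (univ.map y) (by simp) (by simp)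
  have hmem : ∀ i, ∃ c, y c = g (x i) := fun i => by
    obtain ⟨c, -, hc⟩ := mem_map.1 ((hgxy (x i)).2 (mem_map.2 ⟨i, mem_univ _, rfl⟩))
    exact ⟨c, hc⟩
  choose f hf using hmem
  have hfi : Function.Injective f := fun a b e => x.injective (g.injective (by rw [← hf, ← hf, e]))
  set π := Equiv.ofBijective f (Finite.injective_iff_bijective.1 hfi)
  let ey : Fin k ≃ (univ.map y : Finset α) := Equiv.ofBijective (fun i => ⟨y i, mem_map.2 ⟨i, mem_univ _, rfl⟩⟩)
    ⟨fun a b e => y.injective (Subtype.mk.inj e), fun z => by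
      obtain ⟨i, -, hi⟩ := mem_map.1 z.2; exact ⟨i, Subtype.ext hi⟩⟩
  have hσ : ey.permCongr π.symm ∈ Ind G (univ.map y) := by rw [hfull _ (by simp)]; trivial
  obtain ⟨a, ha, haσ⟩ := hσ
  refine ⟨⟨a * g, G.mul_mem ha hg⟩, Function.Embedding.ext fun i => ?_⟩
  show (a * g) (x i) = y i
  rw [Perm.mul_apply, ← hf]
  have h1 := haσ (ey (f i))
  rw [Equiv.permCongr_apply, Equiv.symm_apply_apply, show π.symm (f i) = i from π.symm_apply_apply i] at h1
  exact h1

/-- Order of an induced group when pointwise stabilisers are trivial. -/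
theorem card_ind (h : IsPretransitive G (Set.powersetCard α k)) {s : Finset α} (hs : s.card = k)
    (htriv : ∀ g ∈ G, (∀ x ∈ s, g x = x) → g = 1) :
    Nat.card (Ind G s) * (Fintype.card α).choose k = Nat.card G := by
  set S : Set.powersetCard α k := ⟨s, hs⟩
  have hidx : (stabilizer G S).index = (Fintype.card α).choose k := by
    rw [index_stabilizer_of_transitive, Set.powersetCard.card, Nat.card_eq_fintype_card]
  rw [← (stabilizer G S).card_mul_index, hidx]
  congr 1
  have hmem : ∀ g : stabilizer G S, ∀ x, (g.1 : Perm α) x ∈ s ↔ x ∈ s := fun g x => by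
    have hgs : g.1 • s = s := congrArg Subtype.val g.2
    conv_lhs => rw [← hgs]
    exact Finset.smul_mem_smul_finset_iff g.1
  let φ : stabilizer G S → Ind G s := fun g =>
    ⟨(g.1 : Perm α).subtypePerm (fun x => hmem g x), g.1, g.1.2, fun x => rfl⟩
  refine (Nat.card_eq_of_bijective φ ⟨fun g g' e => ?_, fun σ => ?_⟩).symm
  · have h1 : ((g'.1 : Perm α)⁻¹ * (g.1 : Perm α)) = 1 := htriv _ (G.mul_mem (G.inv_mem g'.1.2) g.1.2) fun x hx => by
      have := congrArg (fun σ : Ind G s => (((σ : Perm s) ⟨x, hx⟩ : s) : α)) e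
      rw [Perm.mul_apply, Perm.inv_def, Equiv.symm_apply_eq]
      exact this
    exact Subtype.ext (Subtype.ext (inv_mul_eq_one.1 h1).symm)
  · obtain ⟨g, hg, hgσ⟩ := σ.2
    have hst : (⟨g, hg⟩ : G) ∈ stabilizer G S := by
      refine Subtype.ext (Finset.eq_of_subset_of_card_le (fun x hx => ?_) (by rw [hs]; simp [S, hs]))
      obtain ⟨z, hz, rfl⟩ := Finset.mem_smul_finset.1 hx
      show g z ∈ s
      rw [hgσ ⟨z, hz⟩]
      exact Subtype.mem _
    exact ⟨⟨_, hst⟩, Subtype.ext (Equiv.ext fun x => Subtype.ext (hgσ x))⟩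

/-- An element preserving `s` and moving a point of `s` induces a non-trivial permutation. -/
theorem two_dvd_ind {s : Finset α} {x : Perm α} (hx : x ∈ G) (h2 : x * x = 1) (hs : ∀ a ∈ s, x a ∈ s)
    {a : α} (ha : a ∈ s) (hxa : x a ≠ a) : 2 ∣ Nat.card (Ind G s) := by
  have hxx : ∀ a, x (x a) = a := fun a => by rw [← Perm.mul_apply, h2, Perm.one_apply]
  set σ : Perm s := x.subtypePerm (fun a => ⟨fun h => by simpa [hxx] using hs _ h, hs a⟩)
  have hσ : σ ∈ Ind G s := ⟨x, hx, fun _ => rfl⟩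
  have ho : orderOf (⟨σ, hσ⟩ : Ind G s) = 2 := by
    refine orderOf_eq_prime (Subtype.ext (Equiv.ext fun z => Subtype.ext ?_)) fun e => hxa ?_
    · exact hxx z
    · exact congrArg (fun q : Ind G s => (((q : Perm s) ⟨a, ha⟩ : s) : α)) e
  exact ho ▸ orderOf_dvd_natCard _

open Classical in
/-- An involution with enough fixed points induces a transposition on some `k`-set. -/
theorem exists_odd_of_involution (h : Homog G k) {x : Perm α} (hx : x ∈ G) (h2 : x * x = 1) (h1 : x ≠ 1)
    (hk : 2 ≤ k) (hfix : k - 2 ≤ (fixF x).card) {s : Finset α} (hs : s.card = k) :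
    ∃ σ ∈ Ind G s, Perm.sign σ = -1 := by
  have hxx : ∀ a, x (x a) = a := fun a => by rw [← Perm.mul_apply, h2, Perm.one_apply]
  obtain ⟨a, ha⟩ : ∃ a, x a ≠ a := by
    by_contra h'; push Not at h'; exact h1 (Equiv.ext h')
  obtain ⟨F, hF, hFc⟩ := Finset.exists_subset_card_eq hfix
  have hFa : a ∉ F ∧ x a ∉ F := ⟨fun h => ha (mem_fixF.1 (hF h)),
    fun h => ha (x.injective (mem_fixF.1 (hF h)))⟩
  set t := insert a (insert (x a) F)
  have ht : t.card = k := by
    rw [card_insert_of_notMem (by simp [Ne.symm ha, hFa.1]), card_insert_of_notMem hFa.2, hFc]; omega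
  refine h.exists_sign ht hs ⟨swap ⟨a, by simp [t]⟩ ⟨x a, by simp [t]⟩, ⟨x, hx, fun z => ?_⟩,
    Perm.sign_swap (fun e => ha (Subtype.mk.inj e).symm)⟩
  rcases Finset.mem_insert.1 z.2 with hz | hz
  · rw [show z = (⟨a, by simp [t]⟩ : t) from Subtype.ext hz, swap_apply_left]
  rcases Finset.mem_insert.1 hz with hz | hz
  · rw [show z = (⟨x a, by simp [t]⟩ : t) from Subtype.ext hz, swap_apply_right]
    exact hxx a
  · rw [swap_apply_of_ne_of_ne (fun e => hFa.1 (by rw [e] at hz; exact hz))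
      (fun e => hFa.2 (by rw [e] at hz; exact hz))]
    exact mem_fixF.1 (hF hz)

/-- Even permutations of the tuple lift fixing `b` when the alternating group is induced. -/
theorem evenLift_of_ind (y : Fin j ↪ α) (b : α) (hb : ∀ c, y c ≠ b)
    (hA : alternatingGroup (insert b (univ.map y) : Finset α) ≤ Ind G (insert b (univ.map y))) :
    EvenLift G y b := by
  intro π hπ
  set Δ : Finset α := insert b (univ.map y)
  set b' : Δ := ⟨b, mem_insert_self _ _⟩
  let e : Fin j ≃ {z : Δ // z ≠ b'} :=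
    Equiv.ofBijective (fun i => ⟨⟨y i, mem_insert_of_mem (mem_map.2 ⟨i, mem_univ _, rfl⟩)⟩,
      fun h => hb i (Subtype.mk.inj h)⟩)
      ⟨fun a c h => y.injective (Subtype.mk.inj (Subtype.mk.inj h)), fun z => by
        rcases Finset.mem_insert.1 z.1.2 with h | h
        · exact absurd (Subtype.ext h) z.2
        · obtain ⟨i, -, hi⟩ := mem_map.1 h; exact ⟨i, Subtype.ext (Subtype.ext hi)⟩⟩
  obtain ⟨g, hg, hgσ⟩ := hA (x := π.extendDomain e)
    (Perm.mem_alternatingGroup.2 (by rw [Perm.sign_extendDomain, hπ]))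
  refine ⟨g, ⟨hg, fun i => ?_⟩, ?_⟩
  · have h1 := hgσ (e i).1
    rw [Perm.extendDomain_apply_image] at h1
    exact h1
  · have h1 := hgσ b'
    rw [Perm.extendDomain_apply_not_subtype π e (by simp)] at h1
    exact h1

/-- An induced group of index two is alternating. -/
theorem ind_eq_alternating {s : Finset α} (h : (Ind G s).index = 2) : Ind G s = alternatingGroup s := by
  have hle := Perm.alternatingGroup_le_of_index_le_two (G := Ind G s) h.le
  have hne : Nontrivial s := by
    rw [← Fintype.one_lt_card_iff_nontrivial]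
    by_contra hc
    have := (Ind G s).index_dvd_card
    rw [h, Nat.card_perm, Nat.card_eq_fintype_card] at this
    have h1 : (Fintype.card s).factorial = 1 := Nat.factorial_eq_one.2 (by omega)
    rw [h1] at this
    exact absurd this (by norm_num)
  refine (Subgroup.eq_of_le_of_card_ge hle ?_).symm
  have h1 := two_mul_nat_card_alternatingGroup (α := s)
  have h2 := (Ind G s).card_mul_index
  rw [h] at h2
  omega

/-- A free orbit. -/
theorem ncard_orbit_kp (hs : Semi G j) (y : Fin j ↪ α) {b : α} (hb : ∀ c, y c ≠ b) :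
    (orbit (kp G y) b).ncard = Nat.card (kp G y) := by
  rw [← index_stabilizer]
  have : stabilizer (kp G y) b = ⊥ := (Subgroup.eq_bot_iff_forall _).2
    fun g hg => Subtype.ext (hs.eq_one hb g.2.1 g.2.2 hg)
  rw [this, Subgroup.index_bot]

end Cfsg.Agent.LivingstoneWagner
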