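import Cfsg.Agent.Lib.LivingstoneWagner.Basic

/-!
# Seven points outside a regular tuple action (owner: helper77)

`G` is sharply `j`-transitive (`j ≥ 4`) on `j + 7` points (in fact `G` is `M₁₁` or `M₁₂`). Then the lifts
of all permutations of a tuple have a common fixed point outside (`common`).
-/

set_option autoImplicit false
set_option linter.unusedSectionVars false

open Equiv MulAction Finset

namespace Cfsg.Agent.LivingstoneWagner

variable {α : Type*} [Fintype α] [DecidableEq α] {j : ℕ} {G : Subgroup (Perm α)}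

theorem eq_of_lifts {y : Fin j ↪ α} {π : Perm (Fin j)} (he : Nat.card (kp G y) = 1) {g h : Perm α}
    (hg : g ∈ lifts G y π) (hh : h ∈ lifts G y π) : g = h := by
  have : (⟨g⁻¹ * h, inv_mul_mem hg hh⟩ : kp G y) = 1 := (Nat.card_eq_one_iff_unique.1 he).1.elim _ _
  exact inv_mul_eq_one.1 (congrArg Subtype.val this :)

/-- `p` is the fixed point outside the tuple of the lift of `swap a b`. -/
def IsP (G : Subgroup (Perm α)) (y : Fin j ↪ α) (a b : Fin j) (p : α) : Prop :=
  (∀ k, y k ≠ p) ∧ ∃ g ∈ lifts G y (swap a b), g p = p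

theorem IsP.comm {y : Fin j ↪ α} {a b : Fin j} {p : α} (h : IsP G y a b p) : IsP G y b a p := by
  rwa [IsP, swap_comm]

section

variable (hT : IsMultiplyPretransitive G α j) (hj : 4 ≤ j) (he : ∀ y : Fin j ↪ α, Nat.card (kp G y) = 1)
  (hn : Fintype.card α = j + 7)
include hT hj he hn

theorem card_fix_swap (y : Fin j ↪ α) {a b : Fin j} (hab : a ≠ b) {g : Perm α}
    (hg : g ∈ lifts G y (swap a b)) :
    g * g = 1 ∧ g ≠ 1 ∧ (fixF g).card = j - 1 ∧ ((univ \ {a, b}).map y) ⊆ fixF g := by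
  have h2 : g * g = 1 := by
    have := lifts_mul hg hg
    rw [swap_mul_self] at this
    exact eq_of_lifts (he y) this one_mem_lifts
  have h1 : g ≠ 1 := fun e => by
    have := hg.2 a
    rw [e, swap_apply_left] at this
    exact hab (y.injective this)
  have h3 := card_fix_lt (fun x => by rw [he x]; exact odd_one) hg.1 h2 h1
  have h4 : (univ \ {a, b}).map y ⊆ fixF g := by
    intro z hz
    obtain ⟨k, hk, rfl⟩ := mem_map.1 hz
    simp only [mem_sdiff, Finset.mem_insert, Finset.mem_singleton, not_or] at hk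
    rw [mem_fixF, hg.2, swap_apply_of_ne_of_ne hk.2.1 hk.2.2]
  have h5 := card_le_card h4
  rw [card_map, card_sdiff_of_subset (subset_univ _), card_pair hab, card_univ, Fintype.card_fin] at h5
  have h6 := fixF_modEq h2
  unfold Nat.ModEq at h6
  exact ⟨h2, h1, by omega, h4⟩

theorem exists_isP (y : Fin j ↪ α) {a b : Fin j} (hab : a ≠ b) : ∃ p, IsP G y a b p := by
  obtain ⟨g, hg⟩ := lifts_nonempty hT y (swap a b)
  obtain ⟨-, -, hc, hsub⟩ := card_fix_swap hT hj he hn y hab hg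
  obtain ⟨p, hp, hpn⟩ := exists_mem_notMem_of_card_lt_card (s := (univ \ {a, b}).map y) (t := fixF g)
    (by rw [hc, card_map, card_sdiff_of_subset (subset_univ _), card_pair hab, card_univ, Fintype.card_fin]
        omega)
  refine ⟨p, fun k hk => hpn (mem_map.2 ⟨k, ?_, hk⟩), g, hg, mem_fixF.1 hp⟩
  simp only [mem_sdiff, mem_univ, Finset.mem_insert, Finset.mem_singleton, true_and, not_or]
  have h := mem_fixF.1 hp
  rw [← hk, hg.2] at h
  have h' := y.injective h
  constructor <;> rintro rfl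
  · rw [swap_apply_left] at h'; exact hab h'.symm
  · rw [swap_apply_right] at h'; exact hab h'

theorem IsP.unique {y : Fin j ↪ α} {a b : Fin j} (hab : a ≠ b) {p q : α} (hp : IsP G y a b p)
    (hq : IsP G y a b q) : p = q := by
  obtain ⟨hp1, g, hg, hgp⟩ := hp
  obtain ⟨hq1, g', hg', hgq⟩ := hq
  obtain rfl := eq_of_lifts (he y) hg hg'
  obtain ⟨-, -, hc, hsub⟩ := card_fix_swap hT hj he hn y hab hg
  by_contra hne
  have h : insert p (insert q ((univ \ {a, b}).map y)) ⊆ fixF g := by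
    intro z hz
    simp only [Finset.mem_insert] at hz
    rcases hz with rfl | rfl | hz
    exacts [mem_fixF.2 hgp, mem_fixF.2 hgq, hsub hz]
  have h' := card_le_card h
  have hnm : ∀ p, (∀ k, y k ≠ p) → p ∉ (univ \ {a, b}).map y := fun p hp hm => by
    obtain ⟨k, -, hk⟩ := mem_map.1 hm; exact hp k hk
  rw [card_insert_of_notMem (by rw [Finset.mem_insert, not_or]; exact ⟨hne, hnm p hp1⟩),
    card_insert_of_notMem (hnm q hq1), card_map, card_sdiff_of_subset (subset_univ _),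
    card_pair hab, card_univ, Fintype.card_fin, hc] at h'
  omega

theorem IsP.move {y : Fin j ↪ α} {a b : Fin j} {p : α} (hp : IsP G y a b p) {π : Perm (Fin j)} {h : Perm α}
    (hh : h ∈ lifts G y π) : IsP G y (π a) (π b) (h p) := by
  obtain ⟨hp1, g, hg, hgp⟩ := hp
  refine ⟨fun k hk => ?_, h * g * h⁻¹, ?_, ?_⟩
  · obtain ⟨k, rfl⟩ := π.surjective k
    rw [← hh.2] at hk
    exact hp1 k (h.injective hk)
  · have := lifts_mul (lifts_mul hh hg) (lifts_inv hh)
    rwa [← swap_apply_apply] at this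
  · rw [Perm.mul_apply, Perm.mul_apply, Perm.inv_def, Equiv.symm_apply_apply, hgp]

theorem IsP.disjoint {y : Fin j ↪ α} {a b c d : Fin j} {p : α} (hab : a ≠ b) (hac : a ≠ c) (had : a ≠ d)
    (hbc : b ≠ c) (hbd : b ≠ d) (hp : IsP G y a b p) : IsP G y c d p := by
  obtain ⟨h, hh⟩ := lifts_nonempty hT y (swap c d)
  have h1 := hp.move hT hj he hn hh
  rw [swap_apply_of_ne_of_ne hac had, swap_apply_of_ne_of_ne hbc hbd] at h1
  exact ⟨hp.1, h, hh, (hp.unique hT hj he hn hab h1).symm⟩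

theorem IsP.adjacent {y : Fin j ↪ α} {a b c : Fin j} {p : α} (hab : a ≠ b) (hac : a ≠ c) (hbc : b ≠ c)
    (hp : IsP G y a b p) : IsP G y a c p := by
  obtain ⟨d, -, hd⟩ := exists_mem_notMem_of_card_lt_card (s := ({a, b, c} : Finset (Fin j))) (t := univ)
    (by rw [card_univ, Fintype.card_fin]; exact lt_of_le_of_lt card_le_three (by omega))
  simp only [Finset.mem_insert, Finset.mem_singleton, not_or] at hd
  obtain ⟨hda, hdb, hdc⟩ := hd
  obtain ⟨p', hp'⟩ := exists_isP hT hj he hn y hac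
  by_contra hne
  have hpp : p ≠ p' := fun e => hne (e ▸ hp')
  obtain ⟨x, hx⟩ := lifts_nonempty hT y (swap a b)
  have hxp : x p = p := by
    obtain ⟨-, g, hg, hgp⟩ := hp
    rwa [eq_of_lifts (he y) hx hg]
  have hp'' : IsP G y b c (x p') := by
    have := hp'.move hT hj he hn hx
    rwa [swap_apply_left, swap_apply_of_ne_of_ne (Ne.symm hac) (Ne.symm hbc)] at this
  have hp''ne : p' ≠ x p' := fun e =>
    hpp (hp.unique hT hj he hn hab ⟨hp'.1, x, hx, e.symm⟩)
  have hpp'' : p ≠ x p' := fun e => hpp (x.injective (hxp.trans e))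
  -- disjoint companions
  have q₁ : IsP G y c d p := hp.disjoint hT hj he hn hab hac (Ne.symm hda) hbc (Ne.symm hdb)
  have q₂ : IsP G y b d p' :=
    hp'.disjoint hT hj he hn hac hab (Ne.symm hda) (Ne.symm hbc) (Ne.symm hdc)
  have q₃ : IsP G y a d (x p') :=
    hp''.disjoint hT hj he hn hbc (Ne.symm hab) (Ne.symm hdb) (Ne.symm hac) (Ne.symm hdc)
  set π₁ : Perm (Fin j) := swap a b * swap c d with hπ₁
  set π₂ : Perm (Fin j) := swap a c * swap b d with hπ₂
  have v : π₁ a = b ∧ π₁ b = a ∧ π₁ c = d ∧ π₁ d = c ∧ π₂ a = c ∧ π₂ b = d ∧ π₂ c = a ∧ π₂ d = b := by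
    simp [hπ₁, hπ₂, swap_apply_def, hab, hac, hbc, hda, hdb, hdc, Ne.symm hab, Ne.symm hac,
      Ne.symm hbc, Ne.symm hda, Ne.symm hdb, Ne.symm hdc]
  obtain ⟨v1, v2, v3, v4, v5, v6, v7, v8⟩ := v
  have hfix4 : ∀ k, k ≠ a → k ≠ b → k ≠ c → k ≠ d → π₁ k = k ∧ π₂ k = k := by
    intro k h1 h2 h3 h4
    simp [hπ₁, hπ₂, swap_apply_def, h1, h2, h3, h4]
  obtain ⟨z₁, hz₁⟩ := lifts_nonempty hT y π₁
  obtain ⟨z₂, hz₂⟩ := lifts_nonempty hT y π₂
  have f₁ : z₁ p = p ∧ z₁ p' = p' ∧ z₁ (x p') = x p' := by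
    have e1 := hp.move hT hj he hn hz₁
    rw [v1, v2] at e1
    have e2 := hp'.move hT hj he hn hz₁
    rw [v1, v3] at e2
    have e3 := hp''.move hT hj he hn hz₁
    rw [v2, v3] at e3
    exact ⟨(hp.comm.unique hT hj he hn (Ne.symm hab) e1).symm, (q₂.unique hT hj he hn (Ne.symm hdb) e2).symm,
      (q₃.unique hT hj he hn (Ne.symm hda) e3).symm⟩
  have f₂ : z₂ p = p ∧ z₂ p' = p' ∧ z₂ (x p') = x p' := by
    have e1 := hp.move hT hj he hn hz₂
    rw [v5, v6] at e1
    have e2 := hp'.move hT hj he hn hz₂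
    rw [v5, v7] at e2
    have e3 := hp''.move hT hj he hn hz₂
    rw [v6, v7] at e3
    exact ⟨(q₁.unique hT hj he hn (Ne.symm hdc) e1).symm, (hp'.comm.unique hT hj he hn (Ne.symm hac) e2).symm,
      (q₃.comm.unique hT hj he hn hda e3).symm⟩
  -- the rest
  set R := univ.map y ∪ {p, p', x p'} with hR
  have hRc : R.card = j + 3 := by
    rw [hR, card_union_of_disjoint, card_map, card_univ, Fintype.card_fin,
      card_insert_of_notMem (by simp [hpp, hpp'']), card_pair hp''ne]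
    refine disjoint_left.2 fun z hz hz' => ?_
    obtain ⟨k, -, rfl⟩ := mem_map.1 hz
    simp only [Finset.mem_insert, Finset.mem_singleton] at hz'
    rcases hz' with e | e | e
    exacts [hp.1 k e, hp'.1 k e, hp''.1 k e]
  have hRfix : ∀ (π : Perm (Fin j)) (z : Perm α), z ∈ lifts G y π → z * z = 1 → π a ≠ a →
      (∀ k, k ≠ a → k ≠ b → k ≠ c → k ≠ d → π k = k) →
      z p = p ∧ z p' = p' ∧ z (x p') = x p' → ∀ q ∉ R, z q ≠ q := by
    intro π z hz hz2 hπa hπ hf q hq hzq
    have hz1 : z ≠ 1 := fun e => by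
      have := hz.2 a
      rw [e, Perm.one_apply] at this
      exact hπa (y.injective this).symm
    have h3 := card_fix_lt (fun x => by rw [he x]; exact odd_one) hz.1 hz2 hz1
    have hsub : insert q (insert p (insert p' (insert (x p') ((univ \ {a, b, c, d}).map y)))) ⊆ fixF z := by
      intro w hw
      simp only [Finset.mem_insert] at hw
      rw [mem_fixF]
      rcases hw with rfl | rfl | rfl | rfl | hw
      exacts [hzq, hf.1, hf.2.1, hf.2.2, by
        obtain ⟨k, hk, rfl⟩ := mem_map.1 hw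
        simp only [mem_sdiff, Finset.mem_insert, Finset.mem_singleton, not_or] at hk
        rw [hz.2, hπ k hk.2.1 hk.2.2.1 hk.2.2.2.1 hk.2.2.2.2]]
    have hm : ∀ w, (∀ k, y k ≠ w) → w ∉ (univ \ {a, b, c, d}).map y := fun w hw hm => by
      obtain ⟨k, -, hk⟩ := mem_map.1 hm; exact hw k hk
    simp only [hR, mem_union, Finset.mem_insert, Finset.mem_singleton, not_or] at hq
    have h := card_le_card hsub
    rw [card_insert_of_notMem (by
        simp only [Finset.mem_insert, not_or]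
        exact ⟨hq.2.1, hq.2.2.1, hq.2.2.2, fun hm' => hq.1 (map_subset_map.2 (subset_univ _) hm')⟩),
      card_insert_of_notMem (by simp only [Finset.mem_insert, not_or]; exact ⟨hpp, hpp'', hm p hp.1⟩),
      card_insert_of_notMem (by simp only [Finset.mem_insert, not_or]; exact ⟨hp''ne, hm p' hp'.1⟩),
      card_insert_of_notMem (hm _ hp''.1), card_map, card_sdiff_of_subset (subset_univ _),
      card_univ, Fintype.card_fin] at h
    have : ({a, b, c, d} : Finset (Fin j)).card ≤ 4 := card_le_four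
    omega
  have sq1 : ∀ {π z}, z ∈ lifts G y π → π * π = 1 → z * z = 1 := fun {π z} hz hπ => by
    have := lifts_mul hz hz
    rw [hπ] at this
    exact eq_of_lifts (he y) this one_mem_lifts
  have key : ∀ k, (π₁ * π₁) k = k ∧ (π₂ * π₂) k = k ∧ (π₁ * π₂ * (π₁ * π₂)) k = k ∧
      (π₁ * swap a b) k = swap c d k ∧ (π₂ * swap a b * (π₂ * swap a b)) k = π₁ k ∧
      (π₁ * π₂ * swap a b * (π₁ * π₂ * swap a b)) k = π₁ k := by
    intro k
    by_cases k1 : k = a <;> by_cases k2 : k = b <;> by_cases k3 : k = c <;> by_cases k4 : k = d <;>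
      first
        | (exfalso; subst_vars; contradiction)
        | simp [hπ₁, hπ₂, swap_apply_def, hab, hac, hbc, hda, hdb, hdc, Ne.symm hab, Ne.symm hac,
            Ne.symm hbc, Ne.symm hda, Ne.symm hdb, Ne.symm hdc, k1, k2, k3, k4]
  have r₁ : π₁ * π₁ = 1 := Equiv.ext fun k => (key k).1
  have r₂ : π₂ * π₂ = 1 := Equiv.ext fun k => (key k).2.1
  have r₃ : π₁ * π₂ * (π₁ * π₂) = 1 := Equiv.ext fun k => (key k).2.2.1
  have r₄ : π₁ * swap a b = swap c d := Equiv.ext fun k => (key k).2.2.2.1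
  have r₅ : π₂ * swap a b * (π₂ * swap a b) = π₁ := Equiv.ext fun k => (key k).2.2.2.2.1
  have r₆ : π₁ * π₂ * swap a b * (π₁ * π₂ * swap a b) = π₁ := Equiv.ext fun k => (key k).2.2.2.2.2
  have z₁₂ := sq1 hz₁ r₁
  have z₂₂ := sq1 hz₂ r₂
  have hz₃ := lifts_mul hz₁ hz₂
  have z₃₂ := sq1 hz₃ r₃
  have m₁ := hRfix π₁ z₁ hz₁ z₁₂ (by rw [v1]; exact Ne.symm hab) (fun k h1 h2 h3 h4 => (hfix4 k h1 h2 h3 h4).1) f₁
  have m₂ := hRfix π₂ z₂ hz₂ z₂₂ (by rw [v5]; exact Ne.symm hac) (fun k h1 h2 h3 h4 => (hfix4 k h1 h2 h3 h4).2) f₂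
  have m₃ := hRfix (π₁ * π₂) (z₁ * z₂) hz₃ z₃₂ (by rw [Perm.mul_apply, v5, v3]; exact hda)
    (fun k h1 h2 h3 h4 => by rw [Perm.mul_apply, (hfix4 k h1 h2 h3 h4).2, (hfix4 k h1 h2 h3 h4).1])
    ⟨by rw [Perm.mul_apply, f₂.1, f₁.1], by rw [Perm.mul_apply, f₂.2.1, f₁.2.1],
      by rw [Perm.mul_apply, f₂.2.2, f₁.2.2]⟩
  obtain ⟨q, -, hqR⟩ := exists_mem_notMem_of_card_lt_card (s := R) (t := univ)
    (by rw [card_univ, hn, hRc]; omega)
  have hxx : x * x = 1 := (card_fix_swap hT hj he hn y hab hx).1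
  have hpres : ∀ (π : Perm (Fin j)) (z : Perm α), z ∈ lifts G y π → z * z = 1 →
      (∀ w ∈ ({p, p', x p'} : Finset α), z w ∈ ({p, p', x p'} : Finset α)) → ∀ w ∉ R, z w ∉ R := by
    intro π z hz hz2 h3 w hw hzw
    apply hw
    rw [show w = z (z w) by rw [← Perm.mul_apply, hz2, Perm.one_apply]]
    rw [hR, mem_union] at hzw ⊢
    rcases hzw with h | h
    · left
      obtain ⟨k, -, hk⟩ := mem_map.1 h
      exact mem_map.2 ⟨π k, mem_univ _, by rw [← hk, hz.2]⟩
    · exact Or.inr (h3 _ h)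
  have g₁ := hpres π₁ z₁ hz₁ z₁₂ (fun w hw => by
    simp only [Finset.mem_insert, Finset.mem_singleton] at hw ⊢
    rcases hw with rfl | rfl | rfl <;> simp [f₁.1, f₁.2.1, f₁.2.2])
  have g₂ := hpres π₂ z₂ hz₂ z₂₂ (fun w hw => by
    simp only [Finset.mem_insert, Finset.mem_singleton] at hw ⊢
    rcases hw with rfl | rfl | rfl <;> simp [f₂.1, f₂.2.1, f₂.2.2])
  have gx := hpres (swap a b) x hx hxx (fun w hw => by
    simp only [Finset.mem_insert, Finset.mem_singleton] at hw ⊢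
    have hxx' : x (x p') = p' := by rw [← Perm.mul_apply, hxx, Perm.one_apply]
    rcases hw with rfl | rfl | rfl <;> simp [hxp, hxx'])
  have hQ : (univ \ R).card = 4 := by
    rw [card_sdiff_of_subset (subset_univ _), card_univ, hn, hRc]; omega
  have hz₁₁ : ∀ w, z₁ (z₁ w) = w := fun w => by rw [← Perm.mul_apply, z₁₂, Perm.one_apply]
  have hz₁c : ∀ w, z₂ (z₁ w) = z₁ (z₂ w) := by
    intro w
    have : z₂ * z₁ = z₁ * z₂ := by
      have h := z₃₂
      calc z₂ * z₁ = z₁ * (z₁ * z₂ * (z₁ * z₂)) * z₂ := by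
            rw [show z₁ * (z₁ * z₂ * (z₁ * z₂)) * z₂ = z₁ * z₁ * (z₂ * z₁) * (z₂ * z₂) by group,
              z₁₂, z₂₂, one_mul, mul_one]
        _ = z₁ * z₂ := by rw [h, mul_one]
    exact congrArg (fun f : Perm α => f w) this
  have hall : ∀ w ∉ R, w = q ∨ w = z₁ q ∨ w = z₂ q ∨ w = z₁ (z₂ q) := by
    intro w hw
    by_contra hh
    simp only [not_or] at hh
    have hsub : ({w, q, z₁ q, z₂ q, z₁ (z₂ q)} : Finset α) ⊆ univ \ R := by
      intro u hu
      simp only [Finset.mem_insert, Finset.mem_singleton] at hu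
      rw [mem_sdiff]
      refine ⟨mem_univ _, ?_⟩
      rcases hu with rfl | rfl | rfl | rfl | rfl
      exacts [hw, hqR, g₁ q hqR, g₂ q hqR, g₁ _ (g₂ q hqR)]
    have h := card_le_card hsub
    rw [hQ, card_insert_of_notMem (by simp [hh.1, hh.2.1, hh.2.2.1, hh.2.2.2]),
      card_insert_of_notMem (by simp [Ne.symm (m₁ q hqR), Ne.symm (m₂ q hqR), Ne.symm (show z₁ (z₂ q) ≠ q from m₃ q hqR)]),
      card_insert_of_notMem ?_, card_pair ?_] at h
    · omega
    · exact Ne.symm (m₁ _ (g₂ q hqR))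
    · simp only [Finset.mem_insert, Finset.mem_singleton, not_or]
      refine ⟨fun e => m₃ q hqR ?_, fun e => m₂ q hqR (z₁.injective e).symm⟩
      rw [Perm.mul_apply, ← e, hz₁₁]
  have bad : ∀ (π : Perm (Fin j)) (g : Perm α), g ∈ lifts G y π → π * π = π₁ → g q = q → False := by
    intro π g hg hπ hgq
    have := lifts_mul hg hg
    rw [hπ] at this
    have h := eq_of_lifts (he y) this hz₁
    exact m₁ q hqR (by rw [← h, Perm.mul_apply, hgq, hgq])
  simp only [hR, mem_union, Finset.mem_insert, Finset.mem_singleton, not_or] at hqR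
  have hqy : ∀ k, y k ≠ q := fun k hk => hqR.1 (mem_map.2 ⟨k, mem_univ _, hk⟩)
  rcases hall (x q) (gx q (by simp only [hR, mem_union, Finset.mem_insert, Finset.mem_singleton, not_or]; exact hqR))
    with e | e | e | e
  · exact hqR.2.1 (IsP.unique hT hj he hn hab ⟨hqy, x, hx, e⟩ hp)
  · have hl := lifts_mul hz₁ hx
    rw [r₄] at hl
    exact hqR.2.1 (IsP.unique hT hj he hn (Ne.symm hdc)
      ⟨hqy, z₁ * x, hl, by rw [Perm.mul_apply, e, hz₁₁]⟩ q₁)
  · exact bad _ _ (lifts_mul hz₂ hx) r₅ (by rw [Perm.mul_apply, e, ← Perm.mul_apply, z₂₂, Perm.one_apply])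
  · exact bad _ _ (lifts_mul hz₃ hx) r₆
      (by rw [Perm.mul_apply, e, ← Perm.mul_apply z₁, ← Perm.mul_apply, z₃₂, Perm.one_apply])

/-- All lifts fix a common further point. -/
theorem common (y : Fin j ↪ α) :
    ∃ p, (∀ k, y k ≠ p) ∧ ∀ π, ∀ g ∈ lifts G y π, g p = p := by
  have h01 : (⟨0, by omega⟩ : Fin j) ≠ ⟨1, by omega⟩ := by simp
  obtain ⟨p, hp⟩ := exists_isP hT hj he hn y h01
  set o : Fin j := ⟨0, by omega⟩
  have h0 : ∀ c, c ≠ o → IsP G y o c p := fun c hc => by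
    by_cases h1 : (⟨1, by omega⟩ : Fin j) = c
    · exact h1 ▸ hp
    · exact hp.adjacent hT hj he hn h01 (Ne.symm hc) h1
  have hall : ∀ c d, c ≠ d → IsP G y c d p := by
    intro c d hcd
    by_cases hc : c = o
    · subst hc; exact h0 d (Ne.symm hcd)
    by_cases hd : d = o
    · subst hd; exact (h0 c hc).comm
    exact (h0 c hc).comm.adjacent hT hj he hn hc hcd (Ne.symm hd)
  refine ⟨p, hp.1, fun π => ?_⟩
  induction π using Perm.swap_induction_on with
  | one => exact fun g hg => by rw [eq_of_lifts (he y) hg one_mem_lifts, Perm.one_apply]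
  | swap_mul f a b hab ih =>
    intro g hg
    obtain ⟨-, x, hx, hxp⟩ := hall a b hab
    obtain ⟨h, hh⟩ := lifts_nonempty hT y f
    rw [eq_of_lifts (he y) hg (lifts_mul hx hh), Perm.mul_apply, ih h hh, hxp]

end

end Cfsg.Agent.LivingstoneWagner
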