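import Cfsg.Agent.Lib.LivingstoneWagner.Counting
import Cfsg.Agent.Lib.LivingstoneWagner.Seven

/-!
# Groups induced on subsets (owner: helper77)

`Ind G Δ` is the group induced on `Δ` by the setwise stabiliser.
* `alternating_le_of_lifts` : if even permutations of tuples lift fixing a given further point, then
  `Ind G Δ` contains the alternating group for all `Δ` of size `j + 1`;
* `exists_alternating` : a `k`-transitive group, `4 ≤ k < n`, has a `(k+1)`-set with this property.
-/

set_option autoImplicit false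
set_option linter.unusedSectionVars false

open Equiv MulAction Finset

namespace Cfsg.Agent.LivingstoneWagner

variable {α : Type*} [Fintype α] [DecidableEq α] {j : ℕ}

/-- The group induced on `Δ`. -/
def Ind (G : Subgroup (Perm α)) (Δ : Finset α) : Subgroup (Perm Δ) where
  carrier := {σ | ∃ g ∈ G, ∀ x : Δ, g (x : α) = σ x}
  one_mem' := ⟨1, G.one_mem, fun _ => rfl⟩
  mul_mem' := fun {a b} ha hb => by
    obtain ⟨g, hg, hga⟩ := ha
    obtain ⟨h, hh, hhb⟩ := hb
    exact ⟨g * h, G.mul_mem hg hh, fun x => by rw [Perm.mul_apply, hhb, hga]; rfl⟩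
  inv_mem' := fun {a} ha => by
    obtain ⟨g, hg, hga⟩ := ha
    refine ⟨g⁻¹, G.inv_mem hg, fun x => ?_⟩
    rw [Perm.inv_def, Equiv.symm_apply_eq, hga]
    exact congrArg Subtype.val (a.apply_symm_apply x).symm

/-- Even permutations of the tuple lift to elements fixing `b`. -/
def EvenLift (G : Subgroup (Perm α)) (y : Fin j ↪ α) (b : α) : Prop :=
  ∀ π, Perm.sign π = 1 → ∃ g ∈ lifts G y π, g b = b

variable {G : Subgroup (Perm α)}

theorem mem_ind_of_fix (h : ∀ (y : Fin j ↪ α) (b : α), (∀ k, y k ≠ b) → EvenLift G y b) {Δ : Finset α}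
    (hΔ : Δ.card = j + 1) {σ : Perm Δ} (hσ : Perm.sign σ = 1) {d : Δ} (hd : σ d = d) : σ ∈ Ind G Δ := by
  have hcard : Fintype.card {x : Δ // x ≠ d} = j := by
    rw [Fintype.card_subtype_compl, Fintype.card_subtype_eq, Fintype.card_coe, hΔ, Nat.add_sub_cancel]
  set e := (Fintype.equivFinOfCardEq hcard).symm
  have hiff : ∀ x, σ x ≠ d ↔ x ≠ d := fun x => not_congr ⟨fun e => σ.injective (e.trans hd.symm), fun e => e ▸ hd⟩
  set π : Perm (Fin j) := e.symm.permCongr (σ.subtypePerm (p := fun x => x ≠ d) hiff) with hπ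
  have hext : π.extendDomain e = σ := by
    refine Equiv.ext fun x => ?_
    by_cases hx : x ≠ d
    · rw [Perm.extendDomain_apply_subtype π e hx, hπ]
      simp
    · rw [Perm.extendDomain_apply_not_subtype π e hx]
      push Not at hx
      rw [hx, hd]
  let y : Fin j ↪ α := e.toEmbedding.trans ((Function.Embedding.subtype _).trans (Function.Embedding.subtype _))
  obtain ⟨g, hg, hgd⟩ := h y d (fun k hk => (e k).2 (Subtype.ext hk)) π
    (by rw [← hσ, ← hext, Perm.sign_extendDomain])
  refine ⟨g, hg.1, fun x => ?_⟩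
  by_cases hx : x = d
  · rw [hx, hd, hgd]
  · have h1 := hg.2 (e.symm ⟨x, hx⟩)
    rw [← hext, Perm.extendDomain_apply_subtype π e hx]
    simpa [y] using h1

theorem alternating_le_of_lifts (hj : 3 ≤ j)
    (h : ∀ (y : Fin j ↪ α) (b : α), (∀ k, y k ≠ b) → EvenLift G y b) {Δ : Finset α}
    (hΔ : Δ.card = j + 1) : alternatingGroup Δ ≤ Ind G Δ := by
  rw [← Perm.closure_three_cycles_eq_alternating, Subgroup.closure_le]
  intro σ hσ
  have h3 : σ.support.card = 3 := hσ.card_support
  obtain ⟨d, -, hd⟩ := exists_mem_notMem_of_card_lt_card (s := σ.support) (t := univ)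
    (by rw [card_univ, Fintype.card_coe, hΔ, h3]; omega)
  exact mem_ind_of_fix h hΔ hσ.sign (Perm.notMem_support.1 hd)

/-- The lifts fixing `b`. -/
def Img (G : Subgroup (Perm α)) (y : Fin j ↪ α) (b : α) : Subgroup (Perm (Fin j)) where
  carrier := {π | ∃ g ∈ lifts G y π, g b = b}
  one_mem' := ⟨1, one_mem_lifts, rfl⟩
  mul_mem' := fun {a c} ha hc => by
    obtain ⟨g, hg, hgb⟩ := ha
    obtain ⟨h, hh, hhb⟩ := hc
    exact ⟨g * h, lifts_mul hg hh, by rw [Perm.mul_apply, hhb, hgb]⟩
  inv_mem' := fun {a} ha => by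
    obtain ⟨g, hg, hgb⟩ := ha
    exact ⟨g⁻¹, lifts_inv hg, by rw [Perm.inv_def, Equiv.symm_apply_eq]; exact hgb.symm⟩

open Classical in
theorem evenLift_of_semi (hT : IsMultiplyPretransitive G α j) (hs : Semi G j) (y : Fin j ↪ α) (b : α)
    (hb : ∀ k, y k ≠ b) (hm : Fintype.card α - j ≤ 2 * Nat.card (kp G y)) : EvenLift G y b := by
  set e := Nat.card (kp G y)
  set I := Img G y b
  have hout : ∀ π, ∀ g ∈ lifts G y π, ∀ k, y k ≠ g b := by
    intro π g hg k hk
    obtain ⟨k, rfl⟩ := π.surjective k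
    rw [← hg.2] at hk
    exact hb k (g.injective hk)
  let rep : {c : α // ∀ k, y k ≠ c} → Perm (Fin j) := fun c =>
    if h : ∃ π, ∃ g ∈ lifts G y π, g b = c then h.choose else 1
  have hmem : ∀ (π : Perm (Fin j)) (g : Perm α) (hg : g ∈ lifts G y π),
      (rep ⟨g b, hout π g hg⟩)⁻¹ * π ∈ I := by
    intro π g hg
    have h : ∃ π', ∃ g' ∈ lifts G y π', g' b = g b := ⟨π, g, hg, rfl⟩
    simp only [rep, dif_pos h]
    obtain ⟨g', hg', hgb⟩ := h.choose_spec
    exact ⟨g'⁻¹ * g, lifts_mul (lifts_inv hg') hg, by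
      rw [Perm.mul_apply, ← hgb, Perm.inv_def, Equiv.symm_apply_apply]⟩
  let F : (Σ π : Perm (Fin j), lifts G y π) → {c : α // ∀ k, y k ≠ c} × I := fun s =>
    (⟨(s.2 : Perm α) b, hout s.1 _ s.2.2⟩, ⟨_, hmem s.1 _ s.2.2⟩)
  have hF : Function.Injective F := by
    rintro ⟨π, g, hg⟩ ⟨π', g', hg'⟩ h
    have h1 : g b = g' b := congrArg Subtype.val (congrArg Prod.fst h)
    have h2 : (rep ⟨g b, hout π g hg⟩)⁻¹ * π = (rep ⟨g' b, hout π' g' hg'⟩)⁻¹ * π' :=
      congrArg Subtype.val (congrArg Prod.snd h)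
    simp only [h1] at h2
    obtain rfl := mul_left_cancel h2
    have hk := inv_mul_mem hg hg'
    have h3 : g⁻¹ * g' = 1 := hs.eq_one hb hk.1 hk.2 (by
      rw [Perm.mul_apply, ← h1, Perm.inv_def, Equiv.symm_apply_apply])
    obtain rfl := inv_mul_eq_one.1 h3
    rfl
  have hcard := Nat.card_le_card_of_injective F hF
  rw [Nat.card_sigma, Nat.card_prod, Finset.sum_congr rfl (g := fun _ => e) (fun π _ => by
    obtain ⟨g, hg⟩ := lifts_nonempty hT y π
    exact card_lifts hg), sum_const, card_univ, Fintype.card_perm, Fintype.card_fin, smul_eq_mul] at hcard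
  have hout' : Nat.card {c : α // ∀ k, y k ≠ c} = Fintype.card α - j := by
    rw [Nat.card_eq_fintype_card, Fintype.card_subtype,
      show (univ.filter fun x : α => ∀ k, y k ≠ x) = (univ.map y)ᶜ by ext x; simp,
      card_compl, card_map, card_univ, Fintype.card_fin]
  rw [hout'] at hcard
  have h2 : I.index ≤ 2 := by
    refine Nat.le_of_mul_le_mul_right ?_ (Nat.mul_pos (Nat.card_pos (α := I)) (Nat.card_pos (α := kp G y)))
    calc I.index * (Nat.card I * e) = Nat.card I * I.index * e := by ring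
      _ = j.factorial * e := by rw [I.card_mul_index, Nat.card_perm, Nat.card_fin]
      _ ≤ (Fintype.card α - j) * Nat.card I := hcard
      _ ≤ 2 * e * Nat.card I := Nat.mul_le_mul_right _ hm
      _ = 2 * (Nat.card I * e) := by ring
  intro π hπ
  exact Perm.alternatingGroup_le_of_index_le_two h2 (Perm.mem_alternatingGroup.2 hπ)

section SevenCase

variable (hT : IsMultiplyPretransitive G α j) (hj : 4 ≤ j) (he : ∀ y : Fin j ↪ α, Nat.card (kp G y) = 1)
  (hn : Fintype.card α = j + 7)
include hT hj he hn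

theorem exists_full_of_seven (y : Fin j ↪ α) : ∃ Δ : Finset α, Δ.card = j + 1 ∧ Ind G Δ = ⊤ := by
  obtain ⟨p, hp, hfix⟩ := common hT hj he hn y
  have hnm : p ∉ univ.map y := fun h => by
    obtain ⟨k, -, hk⟩ := mem_map.1 h; exact hp k hk
  refine ⟨insert p (univ.map y), by rw [card_insert_of_notMem hnm, card_map, card_univ, Fintype.card_fin], ?_⟩
  set Δ := insert p (univ.map y)
  have hcases : ∀ x : Δ, (x : α) = p ∨ ∃ k, y k = x := fun x => by
    rcases Finset.mem_insert.1 x.2 with h | h
    · exact Or.inl h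
    · obtain ⟨k, -, hk⟩ := mem_map.1 h; exact Or.inr ⟨k, hk⟩
  have key : ∀ (u v : Δ), u ≠ v → ∃ g ∈ G, g (u : α) = v ∧ g (v : α) = u ∧
      ∀ w : Δ, w ≠ u → w ≠ v → g (w : α) = w := by
    intro u v huv
    rcases hcases u with hu | ⟨a, ha⟩ <;> rcases hcases v with hv | ⟨b, hb⟩
    · exact absurd (Subtype.ext (hu.trans hv.symm)) huv
    rotate_left
    rotate_left
    · have hab : a ≠ b := fun e => huv (Subtype.ext (by rw [← ha, ← hb, e]))
      obtain ⟨g, hg⟩ := lifts_nonempty hT y (swap a b)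
      refine ⟨g, hg.1, by rw [← ha, ← hb, hg.2, swap_apply_left], by rw [← ha, ← hb, hg.2, swap_apply_right],
        fun w hwu hwv => ?_⟩
      rcases hcases w with hw | ⟨c, hc⟩
      · rw [hw, hfix _ g hg]
      · rw [← hc, hg.2, swap_apply_of_ne_of_ne]
        · exact fun e => hwu (Subtype.ext (by rw [← hc, e, ha]))
        · exact fun e => hwv (Subtype.ext (by rw [← hc, e, hb]))
    all_goals
      -- one of the two is the further point
      have aux : ∀ a, ∃ g ∈ G, g p = y a ∧ g (y a) = p ∧ ∀ c, c ≠ a → g (y c) = y c := by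
        intro a
        obtain ⟨d, -, hda⟩ := exists_mem_notMem_of_card_lt_card (s := ({a} : Finset (Fin j))) (t := univ)
          (by rw [card_univ, Fintype.card_fin, card_singleton]; omega)
        obtain ⟨c, -, hc⟩ := exists_mem_notMem_of_card_lt_card (s := ({a, d} : Finset (Fin j))) (t := univ)
          (by rw [card_univ, Fintype.card_fin]; exact lt_of_le_of_lt card_le_two (by omega))
        simp only [Finset.mem_singleton] at hda
        simp only [Finset.mem_insert, Finset.mem_singleton, not_or] at hc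
        let y' : Fin j ↪ α := y.trans (swap (y d) p).toEmbedding
        have hy'd : y' d = p := swap_apply_left _ _
        have hy' : ∀ k, k ≠ d → y' k = y k := fun k hk =>
          swap_apply_of_ne_of_ne (fun e => hk (y.injective e)) (hp k)
        obtain ⟨p', hp', hfix'⟩ := common hT hj he hn y'
        obtain ⟨x, hx⟩ := lifts_nonempty hT y (swap a c)
        have hx' : x ∈ lifts G y' (swap a c) := by
          refine ⟨hx.1, fun k => ?_⟩
          by_cases hk : k = d
          · rw [hk, swap_apply_of_ne_of_ne hda (Ne.symm hc.2), hy'd, hfix _ x hx]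
          · rw [hy' k hk, hx.2, hy']
            intro e
            rcases eq_or_ne k a with rfl | h1
            · rw [swap_apply_left] at e; exact hc.2 e
            rcases eq_or_ne k c with rfl | h2
            · rw [swap_apply_right] at e; exact hda e.symm
            rw [swap_apply_of_ne_of_ne h1 h2] at e; exact hk e
        have hyd : ∀ k, y' k ≠ y d := by
          intro k hk
          by_cases h : k = d
          · rw [h, hy'd] at hk; exact hp d hk.symm
          · rw [hy' k h] at hk; exact h (y.injective hk)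
        have hpd : p' = y d :=
          IsP.unique hT hj he hn (Ne.symm hc.1) ⟨hp', x, hx', hfix' _ x hx'⟩
            ⟨hyd, x, hx', by rw [hx.2, swap_apply_of_ne_of_ne hda (Ne.symm hc.2)]⟩
        obtain ⟨g, hg⟩ := lifts_nonempty hT y' (swap a d)
        refine ⟨g, hg.1, ?_, ?_, fun k hk => ?_⟩
        · rw [← hy'd, hg.2, swap_apply_right, hy' a (Ne.symm hda)]
        · rw [← hy' a (Ne.symm hda), hg.2, swap_apply_left, hy'd]
        · by_cases hkd : k = d
          · rw [hkd, ← hpd, hfix' _ g hg]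
          · rw [← hy' k hkd, hg.2, swap_apply_of_ne_of_ne hk hkd]
    · obtain ⟨g, hg, h1, h2, h3⟩ := aux b
      refine ⟨g, hg, by rw [hu, h1, hb], by rw [← hb, h2, hu], fun w hwu hwv => ?_⟩
      rcases hcases w with hw | ⟨c, hc⟩
      · exact absurd (Subtype.ext (hw.trans hu.symm)) hwu
      · rw [← hc, h3]; exact fun e => hwv (Subtype.ext (by rw [← hc, e, hb]))
    · obtain ⟨g, hg, h1, h2, h3⟩ := aux a
      refine ⟨g, hg, by rw [← ha, h2, hv], by rw [hv, h1, ha], fun w hwu hwv => ?_⟩
      rcases hcases w with hw | ⟨c, hc⟩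
      · exact absurd (Subtype.ext (hw.trans hv.symm)) hwv
      · rw [← hc, h3]; exact fun e => hwu (Subtype.ext (by rw [← hc, e, ha]))
  rw [eq_top_iff]
  rintro σ -
  induction σ using Perm.swap_induction_on with
  | one => exact (Ind G Δ).one_mem
  | swap_mul f u v huv ih =>
    refine (Ind G Δ).mul_mem ?_ ih
    obtain ⟨g, hg, h1, h2, h3⟩ := key u v huv
    refine ⟨g, hg, fun w => ?_⟩
    rcases eq_or_ne w u with rfl | hu
    · rw [h1, swap_apply_left]
    rcases eq_or_ne w v with rfl | hv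
    · rw [h2, swap_apply_right]
    rw [h3 w hu hv, swap_apply_of_ne_of_ne hu hv]

end SevenCase

/-- Restriction to an invariant subset transfers an alternating action. -/
theorem ind_map {F : Finset α} {H : Subgroup (Perm F)} (hH : ∀ h ∈ H, ∃ g ∈ G, ∀ x : F, g (x : α) = h x)
    {Δ : Finset F} (hΔ : alternatingGroup Δ ≤ Ind H Δ) :
    alternatingGroup (Δ.map (Function.Embedding.subtype _) : Finset α) ≤
      Ind G (Δ.map (Function.Embedding.subtype _)) := by
  set ψ : Δ ≃ (Δ.map (Function.Embedding.subtype (· ∈ F)) : Finset α) :=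
    Equiv.ofBijective (fun x => ⟨((x : F) : α), mem_map.2 ⟨x, x.2, rfl⟩⟩)
      ⟨fun a b e => Subtype.ext (Subtype.ext (Subtype.mk.inj e)), fun z => by
        obtain ⟨w, hw, hwz⟩ := mem_map.1 z.2
        exact ⟨⟨w, hw⟩, Subtype.ext hwz⟩⟩
  intro σ hσ
  have hs : ψ.symm.permCongr σ ∈ alternatingGroup Δ := by
    rw [Perm.mem_alternatingGroup, Perm.sign_permCongr]
    exact Perm.mem_alternatingGroup.1 hσ
  obtain ⟨h, hh, hhσ⟩ := hΔ hs
  obtain ⟨g, hg, hgh⟩ := hH h hh
  refine ⟨g, hg, fun z => ?_⟩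
  obtain ⟨x, rfl⟩ := ψ.surjective z
  have h1 := hgh (x : F)
  rw [hhσ x] at h1
  refine h1.trans ?_
  have e : ψ.symm.permCongr σ x = ψ.symm (σ (ψ x)) := by simp [Equiv.permCongr_apply]
  rw [e]
  exact congrArg Subtype.val (ψ.apply_symm_apply (σ (ψ x)))

end Cfsg.Agent.LivingstoneWagner
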