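import Cfsg.Agent.Lib.LivingstoneWagner.Induced
import Cfsg.Agent.S0743
import Cfsg.Agent.Lib.Coprime.Generation

/-!
# A `k`-transitive group induces an alternating group on some `(k+1)`-set (owner: helper77)

If some non-identity element fixes more than `k` points, a largest `p`-subgroup `R` with this property
has a normaliser that is `k`-transitive on `Fix R` (Witt or Gleason) and induction applies; otherwise
`bound` applies.
-/

set_option autoImplicit false
set_option linter.unusedSectionVars false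

open Equiv MulAction Finset

namespace Cfsg.Agent.LivingstoneWagner

universe u

variable {α : Type u} [Fintype α] [DecidableEq α] {k : ℕ} {G : Subgroup (Perm α)}

open Classical in
/-- The common fixed points of a subgroup. -/
noncomputable def fixR (R : Subgroup (Perm α)) : Finset α := univ.filter fun x => ∀ r ∈ R, r x = x

theorem mem_fixR {R : Subgroup (Perm α)} {x : α} : x ∈ fixR R ↔ ∀ r ∈ R, r x = x := by simp [fixR]

theorem norm_fixR {R : Subgroup (Perm α)} {n : Perm α}
    (hn : n ∈ Subgroup.normalizer (R : Set (Perm α))) (x : α) : n x ∈ fixR R ↔ x ∈ fixR R := by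
  have key : ∀ n : Perm α, n ∈ Subgroup.normalizer (R : Set (Perm α)) → ∀ x ∈ fixR R, n x ∈ fixR R := by
    intro n hn x hx
    rw [mem_fixR] at hx ⊢
    intro r hr
    have h1 : n⁻¹ * r * n ∈ R := (Subgroup.mem_normalizer_iff''.1 hn r).1 hr
    have h2 : n⁻¹ (r (n x)) = x := hx _ h1
    calc r (n x) = n (n⁻¹ (r (n x))) := (n.apply_symm_apply _).symm
      _ = n x := by rw [h2]
  refine ⟨fun h => ?_, key n hn x⟩
  have := key n⁻¹ (Subgroup.inv_mem _ hn) _ h
  rwa [Perm.inv_def, Equiv.symm_apply_apply] at this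

/-- The action of `N_G(R)` on `Fix R`. -/
def restrictHom (G R : Subgroup (Perm α)) :
    ↥(G ⊓ Subgroup.normalizer (R : Set (Perm α))) →* Perm ↥(fixR R) where
  toFun n := (n : Perm α).subtypePerm (fun x => norm_fixR n.2.2 x)
  map_one' := Equiv.ext fun x => rfl
  map_mul' a b := Equiv.ext fun x => rfl

theorem exists_normalizer_gt {P R : Subgroup (Perm α)} {p : ℕ} [Fact p.Prime] (hP : IsPGroup p P)
    (hRP : R < P) : ∃ Q ≤ P, R < Q ∧ Q ≤ Subgroup.normalizer (R : Set (Perm α)) := by
  have hnil : Group.IsNilpotent P := hP.isNilpotent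
  have hlt : R.subgroupOf P < ⊤ := by
    rw [lt_top_iff_ne_top, Ne, Subgroup.subgroupOf_eq_top]
    exact hRP.not_ge
  obtain ⟨w, hw, hwn⟩ := SetLike.exists_of_lt (Group.normalizerCondition_of_isNilpotent _ hlt)
  have hwR : (w : Perm α) ∈ Subgroup.normalizer (R : Set (Perm α)) := by
    rw [Subgroup.mem_normalizer_iff]
    intro h
    constructor
    · intro hh
      exact (Subgroup.mem_normalizer_iff.1 hw ⟨h, hRP.le hh⟩).1 hh
    · intro hh
      have h1 : h ∈ P := by
        have := P.mul_mem (P.mul_mem (P.inv_mem w.2) (hRP.le hh)) w.2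
        simpa [mul_assoc] using this
      exact (Subgroup.mem_normalizer_iff.1 hw ⟨h, h1⟩).2 hh
  refine ⟨P ⊓ Subgroup.normalizer (R : Set (Perm α)), inf_le_left, ?_, inf_le_right⟩
  exact lt_of_le_of_ne (le_inf hRP.le Subgroup.le_normalizer) fun e => hwn (Subgroup.mem_subgroupOf.2 (e ▸ ⟨w.2, hwR⟩))

theorem map_conj_le_kp {R : Subgroup (Perm α)} (hRG : R ≤ G) {g : Perm α} (hg : g ∈ G)
    {x y : Fin k ↪ α} (hxy : ∀ i, g (x i) = y i) (hx : R ≤ kp G x) :
    R.map (MulAut.conj g).toMonoidHom ≤ kp G y := by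
  rintro _ ⟨r, hr, rfl⟩
  refine ⟨G.mul_mem (G.mul_mem hg (hRG hr)) (G.inv_mem hg), fun i => ?_⟩
  show (g * r * g⁻¹) (y i) = _
  rw [← hxy, Perm.mul_apply, Perm.mul_apply, Perm.inv_def, Equiv.symm_apply_apply, (hx hr).2]
  exact hxy _

open Classical in
theorem restrict_transitive (hT : IsMultiplyPretransitive G α k) (hk : 1 ≤ k) {p : ℕ} [hp : Fact p.Prime]
    {R : Subgroup (Perm α)} (hRG : R ≤ G) (hRp : IsPGroup p R) (hRk : k < (fixR R).card)
    (hmax : ∀ S : Subgroup (Perm α), S ≤ G → IsPGroup p S → k < (fixR S).card → Nat.card S ≤ Nat.card R) :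
    IsMultiplyPretransitive (restrictHom G R).range ↥(fixR R) k := by
  have hRle : ∀ x : Fin k ↪ α, (∀ i, x i ∈ fixR R) → R ≤ kp G x := fun x hx r hr =>
    ⟨hRG hr, fun i => mem_fixR.1 (hx i) r hr⟩
  by_cases hgl : ∀ x : Fin k ↪ α, (∀ i, x i ∈ fixR R) → ∃ P, P ≤ kp G x ∧ IsPGroup p P ∧ R < P
  · -- Gleason
    refine Cfsg.Agent.S0743.result _ hp.out hk (by rwa [Fintype.card_coe]) fun s hs => ?_
    obtain ⟨x₀, hx₀⟩ := exists_tuple hs
    set x : Fin k ↪ α := x₀.trans (Function.Embedding.subtype _)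
    obtain ⟨P, hPx, hP, hRP⟩ := hgl x (fun i => (x₀ i).2)
    obtain ⟨Q, hQP, hRQ, hQN⟩ := exists_normalizer_gt hP hRP
    have hQG : Q ≤ G := fun q hq => (hPx (hQP hq)).1
    have hQp : IsPGroup p Q := hP.to_le hQP
    have hQfix : (fixR Q).card ≤ k := by
      by_contra h
      have h1 := hmax Q hQG hQp (by omega)
      exact hRQ.ne (Subgroup.eq_of_le_of_card_ge hRQ.le h1)
    have hsub : univ.map x ⊆ fixR Q := by
      intro z hz
      obtain ⟨i, -, rfl⟩ := mem_map.1 hz
      exact mem_fixR.2 fun q hq => (hPx (hQP hq)).2 i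
    have heq : fixR Q = univ.map x := (eq_of_subset_of_card_le hsub (by
      rwa [card_map, card_univ, Fintype.card_fin])).symm
    set φ := restrictHom G R
    set Q' := (Q.subgroupOf (G ⊓ Subgroup.normalizer (R : Set (Perm α)))).map φ
    have hQ'le : Q' ≤ φ.range := Subgroup.map_le_range _ _
    have hQ'p : IsPGroup p Q' :=
      (hQp.comap_of_injective _ (Subgroup.subtype_injective _)).map _
    refine ⟨Q'.subgroupOf φ.range, hQ'p.of_equiv (Subgroup.subgroupOfEquivOfLe hQ'le).symm, ?_⟩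
    ext z
    rw [MulAction.mem_fixedPoints, mem_coe, hx₀]
    constructor
    · intro hz
      have : (z : α) ∈ fixR Q := mem_fixR.2 fun q hq => by
        have hqN : q ∈ G ⊓ Subgroup.normalizer (R : Set (Perm α)) := ⟨hQG hq, hQN hq⟩
        exact congrArg Subtype.val (hz ⟨⟨φ ⟨q, hqN⟩, ⟨⟨q, hqN⟩, rfl⟩⟩, ⟨⟨q, hqN⟩, hq, rfl⟩⟩)
      rw [heq] at this
      obtain ⟨i, -, hi⟩ := mem_map.1 this
      exact ⟨i, Subtype.ext hi⟩
    · rintro ⟨i, rfl⟩ ⟨⟨w, hw⟩, hmem⟩
      obtain ⟨n, hn, e⟩ := hmem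
      obtain rfl : φ n = w := e
      exact Subtype.ext ((hPx (hQP hn)).2 i)
  · -- Witt
    push Not at hgl
    obtain ⟨x₀, hx₀, hmx⟩ := hgl
    have hSyl : ∀ x : Fin k ↪ α, (∀ i, x i ∈ fixR R) →
        Nat.card (R.subgroupOf (kp G x)) = p ^ (Nat.card (kp G x)).factorization p := by
      intro x hx
      rw [Nat.card_congr (Subgroup.subgroupOfEquivOfLe (hRle x hx)).toEquiv, card_kp_eq hT x x₀]
      obtain ⟨P, hP⟩ := (hRp.comap_of_injective (kp G x₀).subtype (Subgroup.subtype_injective _)).exists_le_sylow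
      set P' := (P : Subgroup (kp G x₀)).map (kp G x₀).subtype
      have hP' : R ≤ P' := fun r hr => ⟨⟨r, hRle x₀ hx₀ hr⟩, hP hr, rfl⟩
      have hnl := hmx P' (Subgroup.map_subtype_le _) (P.2.map _)
      have : R = P' := hP'.eq_of_not_lt hnl
      rw [this, Subgroup.card_map_of_injective (Subgroup.subtype_injective _), P.card_eq_multiplicity]
    rw [isMultiplyPretransitive_iff]
    intro a c
    set a' : Fin k ↪ α := a.trans (Function.Embedding.subtype _)
    set c' : Fin k ↪ α := c.trans (Function.Embedding.subtype _)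
    obtain ⟨g, hg, hga⟩ := move hT a' c'
    set R' := R.map (MulAut.conj g).toMonoidHom
    have hR'le : R' ≤ kp G c' := map_conj_le_kp hRG hg hga (hRle a' fun i => (a i).2)
    have hR'card : Nat.card R' = Nat.card R := Subgroup.card_map_of_injective (MulAut.conj g).injective
    have hc := hSyl c' fun i => (c i).2
    have hc' : Nat.card (R'.subgroupOf (kp G c')) = p ^ (Nat.card (kp G c')).factorization p := by
      rw [Nat.card_congr (Subgroup.subgroupOfEquivOfLe hR'le).toEquiv, hR'card,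
        ← Nat.card_congr (Subgroup.subgroupOfEquivOfLe (hRle c' fun i => (c i).2)).toEquiv]
      exact hc
    obtain ⟨h, hh⟩ := exists_smul_eq (kp G c') (Sylow.ofCard _ hc') (Sylow.ofCard _ hc)
    have hsub : ∀ r, r ∈ R → (h : Perm α) * g * r * ((h : Perm α) * g)⁻¹ ∈ R := by
      intro r hr
      have hm : g * r * g⁻¹ ∈ R' := ⟨r, hr, rfl⟩
      have : h * (⟨g * r * g⁻¹, hR'le hm⟩ : kp G c') * h⁻¹ ∈
          ((Sylow.ofCard _ hc : Sylow p (kp G c')) : Subgroup (kp G c')) := by
        rw [← hh, Sylow.coe_subgroup_smul]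
        exact Subgroup.smul_mem_pointwise_smul _ (MulAut.conj h) _
          (show (⟨g * r * g⁻¹, hR'le hm⟩ : kp G c') ∈ R'.subgroupOf (kp G c') from hm)
      rw [Sylow.coe_ofCard, Subgroup.mem_subgroupOf] at this
      rw [show (h : Perm α) * g * r * ((h : Perm α) * g)⁻¹ = h * (g * r * g⁻¹) * (h : Perm α)⁻¹ by group]
      exact this
    have hn : (h : Perm α) * g ∈ G ⊓ Subgroup.normalizer (R : Set (Perm α)) :=
      ⟨G.mul_mem h.2.1 hg, Coprime.mem_normalizer_of_forall hsub⟩
    refine ⟨⟨restrictHom G R ⟨_, hn⟩, ⟨_, rfl⟩⟩, Function.Embedding.ext fun i => Subtype.ext ?_⟩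
    show ((h : Perm α) * g) (a' i) = c' i
    rw [Perm.mul_apply, hga, h.2.2]
    rfl

/-- **A `k`-transitive group, `4 ≤ k < n`, induces an alternating or symmetric group on some
`(k+1)`-set.** -/
theorem exists_alternating (hk : 4 ≤ k) :
    ∀ (n : ℕ) (β : Type u) [Fintype β] [DecidableEq β] (H : Subgroup (Perm β)), Fintype.card β = n →
      k < n → IsMultiplyPretransitive H β k →
      ∃ Δ : Finset β, Δ.card = k + 1 ∧ alternatingGroup Δ ≤ Ind H Δ := by
  intro n
  induction n using Nat.strong_induction_on with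
  | _ n ih =>
    intro β _ _ H hn hkn hT
    by_cases hbad : ∃ g ∈ H, g ≠ 1 ∧ k < (fixF g).card
    · obtain ⟨g, hg, hg1, hgk⟩ := hbad
      obtain ⟨p, hp, hpd⟩ := Nat.exists_prime_and_dvd (show orderOf g ≠ 1 by simpa using hg1)
      have := Fact.mk hp
      set h := g ^ (orderOf g / p) with hh
      have hho : orderOf h = p := orderOf_pow_orderOf_div (orderOf_pos g).ne' hpd
      have hhp : IsPGroup p (Subgroup.zpowers h) :=
        IsPGroup.of_card (n := 1) (by rw [Nat.card_zpowers, hho, pow_one])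
      have hhfix : fixF g ⊆ fixR (Subgroup.zpowers h) := by
        intro x hx
        rw [mem_fixR]
        rintro r ⟨i, rfl⟩
        exact Function.IsFixedPt.perm_zpow (Function.IsFixedPt.perm_pow (mem_fixF.1 hx) _) i
      let C := {R : Subgroup (Perm β) // R ≤ H ∧ IsPGroup p R ∧ k < (fixR R).card}
      have : Nonempty C := ⟨⟨Subgroup.zpowers h, Subgroup.zpowers_le.2 (H.pow_mem hg _), hhp,
        lt_of_lt_of_le hgk (card_le_card hhfix)⟩⟩
      obtain ⟨⟨R, hRH, hRp, hRk⟩, hmax⟩ := Finite.exists_max fun R : C => Nat.card R.1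
      have hRcard : p ≤ Nat.card R := by
        have : Nat.card (Subgroup.zpowers h) ≤ Nat.card R := hmax ⟨Subgroup.zpowers h,
          Subgroup.zpowers_le.2 (H.pow_mem hg _), hhp, lt_of_lt_of_le hgk (card_le_card hhfix)⟩
        rwa [Nat.card_zpowers, hho] at this
      have hlt : (fixR R).card < n := by
        rw [← hn, Finset.card_lt_iff_ne_univ]
        intro hu
        have hR : R = ⊥ := (Subgroup.eq_bot_iff_forall _).2 fun r hr => Equiv.ext fun x =>
          mem_fixR.1 (hu ▸ mem_univ x) r hr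
        rw [hR, Subgroup.card_bot] at hRcard
        exact absurd hp.two_le (by omega)
      have hT' := restrict_transitive hT (by omega) hRH hRp hRk
        (fun S h1 h2 h3 => hmax ⟨S, h1, h2, h3⟩)
      obtain ⟨Δ, hΔc, hΔ⟩ := ih _ hlt ↥(fixR R) (restrictHom H R).range (Fintype.card_coe _) hRk hT'
      refine ⟨Δ.map (Function.Embedding.subtype _), by rw [card_map, hΔc], ind_map (fun a ha => ?_) hΔ⟩
      obtain ⟨⟨m, hm⟩, rfl⟩ := ha
      exact ⟨m, hm.1, fun x => rfl⟩
    · push Not at hbad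
      obtain ⟨y⟩ : Nonempty (Fin k ↪ β) :=
        Function.Embedding.nonempty_of_card_le (by rw [Fintype.card_fin, hn]; omega)
      rcases bound hk (by omega) hT hbad y with hm | ⟨h7, he, -⟩
      · obtain ⟨Δ, -, hΔ⟩ := Finset.exists_subset_card_eq (n := k + 1) (s := (univ : Finset β))
          (by rw [card_univ, hn]; omega)
        refine ⟨Δ, hΔ, alternating_le_of_lifts (by omega) (fun x b hb => ?_) hΔ⟩
        exact evenLift_of_semi hT hbad x b hb (by rwa [card_kp_eq hT x y])
      · obtain ⟨Δ, hΔc, hΔ⟩ := exists_full_of_seven hT hk (fun x => by rw [card_kp_eq hT x y, he])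
          (by omega) y
        exact ⟨Δ, hΔc, hΔ ▸ le_top⟩

end Cfsg.Agent.LivingstoneWagner
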