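import Cfsg.Agent.Lib.LivingstoneWagner.Basic
import Cfsg.Agent.Lib.Coprime.Generation

/-!
# The four-group argument (owner: helper77)

`G` is `j`-transitive, `j ≥ 4`, with tuple stabilisers `K` of odd order; every even permutation of a
tuple lifts to an element fixing the further point `b`; and there are `2 |K b|` points outside the
tuple. Lifts of the three double transpositions of four positions form a four-group with the common
fixed point `b` in `K b`, so `K` fixes `b` (`split`).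
-/

set_option autoImplicit false
set_option linter.unusedSectionVars false

open Equiv MulAction Finset

namespace Cfsg.Agent.LivingstoneWagner

variable {α : Type*} [Fintype α] [DecidableEq α] {j i : ℕ} {G : Subgroup (Perm α)}

theorem filter_fixed_modEq (S : Finset α) {z : Perm α} (h2 : z * z = 1) (hz : ∀ x ∈ S, z x ∈ S) :
    (S.filter fun x => z x = x).card ≡ S.card [MOD 2] := by
  have hzz : ∀ x, z (z x) = x := fun x => by rw [← Perm.mul_apply, h2, Perm.one_apply]
  let q : Perm S :=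
    { toFun := fun x => ⟨z x, hz x x.2⟩
      invFun := fun x => ⟨z x, hz x x.2⟩
      left_inv := fun x => Subtype.ext (hzz x)
      right_inv := fun x => Subtype.ext (hzz x) }
  have h := fixF_modEq (g := q) (Equiv.ext fun x => Subtype.ext (hzz x))
  rw [Fintype.card_coe] at h
  have e : (fixF q).map (Function.Embedding.subtype _) = S.filter fun x => z x = x := by
    ext x
    simp only [mem_map, mem_fixF, Function.Embedding.coe_subtype, Finset.mem_filter]
    constructor
    · rintro ⟨w, hw, rfl⟩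
      exact ⟨w.2, congrArg Subtype.val hw⟩
    · rintro ⟨hx, hx2⟩
      exact ⟨⟨x, hx⟩, Subtype.ext hx2, rfl⟩
  rwa [← e, card_map]

/-- Permutations of the first four positions. -/
noncomputable def first (i : ℕ) : Perm (Fin 4) →* Perm (Fin (i + 4)) :=
  Perm.extendDomainHom
    ({ toFun := fun k => ⟨⟨k, by omega⟩, k.2⟩
       invFun := fun k => ⟨(k.1 : ℕ), k.2⟩
       left_inv := fun _ => rfl
       right_inv := fun _ => rfl } : Fin 4 ≃ {k : Fin (i + 4) // (k : ℕ) < 4})

theorem first_apply_of_ge (p : Perm (Fin 4)) (k : Fin (i + 4)) (hk : ¬ (k : ℕ) < 4) : first i p k = k :=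
  Perm.extendDomain_apply_not_subtype _ _ hk

theorem sign_first (p : Perm (Fin 4)) : Perm.sign (first i p) = Perm.sign p :=
  Perm.sign_extendDomain _ _

open Classical in
/-- An involution lifting a permutation of the first four positions has one fixed point in each half. -/
theorem unique_fixed (hodd : ∀ x : Fin (i + 4) ↪ α, Odd (Nat.card (kp G x))) (y : Fin (i + 4) ↪ α)
    (p : Perm (Fin 4)) (hp : p ≠ 1) {z : Perm α} (hz : z ∈ lifts G y (first i p)) (h2 : z * z = 1)
    (O : Finset α) (hOy : ∀ k, y k ∉ O) (hO : Odd O.card)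
    (hO' : Odd (Fintype.card α - (i + 4) - O.card)) (hzO : ∀ x ∈ O, z x ∈ O) :
    ∀ x ∈ O, ∀ x' ∈ O, z x = x → z x' = x' → x = x' := by
  have hzz : ∀ x, z (z x) = x := fun x => by rw [← Perm.mul_apply, h2, Perm.one_apply]
  have hne : z ≠ 1 := by
    intro h
    apply hp
    refine (Perm.extendDomainHom_injective _ : Function.Injective (first i)) (Equiv.ext fun k => y.injective ?_)
    have := hz.2 k
    rw [h, Perm.one_apply] at this
    simp only [map_one, Perm.one_apply]
    exact this.symm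
  have h1 := card_fix_lt hodd hz.1 h2 hne
  set R := univ.map y
  set O' := (R ∪ O)ᶜ with hOdef
  have hdis : Disjoint R O := disjoint_left.2 fun x hx => by
    obtain ⟨k, -, rfl⟩ := mem_map.1 hx
    exact hOy k
  have hcard : O'.card = Fintype.card α - (i + 4) - O.card := by
    rw [hOdef, card_compl, card_union_of_disjoint hdis, card_map, card_univ, Fintype.card_fin]
    omega
  have hzR : ∀ x ∈ R, z x ∈ R := fun x hx => by
    obtain ⟨k, -, rfl⟩ := mem_map.1 hx
    rw [hz.2]; exact mem_map.2 ⟨_, mem_univ _, rfl⟩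
  have hzO' : ∀ x ∈ O', z x ∈ O' := by
    intro x hx
    rw [hOdef, mem_compl, mem_union, not_or] at hx ⊢
    exact ⟨fun h => hx.1 (by simpa [hzz] using hzR _ h), fun h => hx.2 (by simpa [hzz] using hzO _ h)⟩
  have hf1 := filter_fixed_modEq O h2 hzO
  have hf2 := filter_fixed_modEq O' h2 hzO'
  rw [hcard] at hf2
  set Y := univ.map ⟨fun k : Fin i => y ⟨(k : ℕ) + 4, by omega⟩,
    fun a b e => Fin.ext (by have := congrArg Fin.val (y.injective e); simp at this; omega)⟩
  have hY : Y ⊆ R.filter fun x => z x = x := by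
    intro x hx
    obtain ⟨k, -, rfl⟩ := mem_map.1 hx
    refine mem_filter.2 ⟨mem_map.2 ⟨_, mem_univ _, rfl⟩, ?_⟩
    exact (hz.2 _).trans (congrArg y (first_apply_of_ge p _ (by simp)))
  have hYc : i ≤ (R.filter fun x => z x = x).card := by
    have := card_le_card hY
    rwa [card_map, card_univ, Fintype.card_fin] at this
  have hsum : (R.filter fun x => z x = x).card + (O.filter fun x => z x = x).card +
      (O'.filter fun x => z x = x).card ≤ (fixF z).card := by
    rw [← card_union_of_disjoint, ← card_union_of_disjoint]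
    · exact card_le_card fun x hx => by
        simp only [mem_union, Finset.mem_filter] at hx
        rcases hx with (h | h) | h <;> exact mem_fixF.2 h.2
    · refine disjoint_left.2 fun x hx hx' => ?_
      simp only [mem_union, Finset.mem_filter, hOdef, mem_compl] at hx hx'
      exact hx'.1 (hx.imp (·.1) (·.1))
    · exact disjoint_left.2 fun x hx hx' => disjoint_left.1 hdis (mem_filter.1 hx).1 (mem_filter.1 hx').1
  have hone : (O.filter fun x => z x = x).card ≤ 1 := by
    rw [Nat.odd_iff] at hO hO'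
    unfold Nat.ModEq at hf1 hf2
    omega
  intro x hx x' hx' e e'
  exact card_le_one.1 hone x (mem_filter.2 ⟨hx, e⟩) x' (mem_filter.2 ⟨hx', e'⟩)

open Classical in
/-- **The four-group argument.** -/
theorem split (hj : 4 ≤ j) (hodd : ∀ x : Fin j ↪ α, Odd (Nat.card (kp G x))) (y : Fin j ↪ α) (b : α)
    (hb : ∀ k, y k ≠ b) (heven : ∀ π, Perm.sign π = 1 → ∃ g ∈ lifts G y π, g b = b)
    (hm : Fintype.card α - j = 2 * (orbit (kp G y) b).ncard) : Fintype.card α - j = 2 := by
  obtain ⟨i, rfl⟩ : ∃ i, j = i + 4 := ⟨j - 4, by omega⟩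
  set K := kp G y with hK
  set O := univ.filter fun x : α => ∃ k ∈ K, k b = x with hOdef
  have hOcard : O.card = (orbit K b).ncard := by
    rw [← Set.ncard_coe_finset]
    congr 1
    ext x
    simp [hOdef, mem_orbit_iff, Subgroup.smul_def]
  have hbO : b ∈ O := mem_filter.2 ⟨mem_univ _, 1, K.one_mem, rfl⟩
  have hOy : ∀ k, y k ∉ O := by
    intro k hk
    obtain ⟨-, g, hg, e⟩ := mem_filter.1 hk
    exact hb k (g.injective ((hg.2 k).trans e.symm))
  have hOodd : Odd O.card := by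
    rw [hOcard, ← index_stabilizer]
    exact (hodd y).of_dvd_nat (Subgroup.index_dvd_card _)
  have hO' : Odd (Fintype.card α - (i + 4) - O.card) := by
    rw [hm, hOcard, show 2 * (orbit K b).ncard - (orbit K b).ncard = (orbit K b).ncard by omega, ← hOcard]
    exact hOodd
  have hnorm : ∀ π, ∀ g ∈ lifts G y π, ∀ k ∈ K, g * k * g⁻¹ ∈ K := by
    intro π g hg k hk
    have := lifts_mul (lifts_mul hg (show k ∈ lifts G y 1 from hk)) (lifts_inv hg)
    rwa [mul_one, mul_inv_cancel] at this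
  have hpres : ∀ π, Perm.sign π = 1 → ∀ z ∈ lifts G y π, ∀ x ∈ O, z x ∈ O := by
    intro π hπ z hz x hx
    obtain ⟨-, k, hk, rfl⟩ := mem_filter.1 hx
    obtain ⟨g, hg, hgb⟩ := heven π hπ
    have hv : g⁻¹ * z * k ∈ K := K.mul_mem (inv_mul_mem hg hz) hk
    refine mem_filter.2 ⟨mem_univ _, g * (g⁻¹ * z * k) * g⁻¹, hnorm π g hg _ hv, ?_⟩
    have e : g⁻¹ b = b := by rw [Perm.inv_def, Equiv.symm_apply_eq]; exact hgb.symm
    rw [Perm.mul_apply, e, show g * (g⁻¹ * z * k) = z * k by group, Perm.mul_apply]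
  -- three double transpositions
  set p₁ : Perm (Fin 4) := Equiv.swap 0 1 * Equiv.swap 2 3
  set p₂ : Perm (Fin 4) := Equiv.swap 0 2 * Equiv.swap 1 3
  have hp : Perm.sign p₁ = 1 ∧ Perm.sign p₂ = 1 ∧ p₁ ≠ 1 ∧ p₂ ≠ 1 ∧ p₁ * p₂ ≠ 1 ∧ p₁ * p₁ = 1 ∧
      p₂ * p₂ = 1 ∧ p₁ * p₂ = p₂ * p₁ := by decide
  obtain ⟨hs₁, hs₂, hn₁, hn₂, hn₃, hq₁, hq₂, hcomm⟩ := hp
  have hs₁' : Perm.sign (first i p₁) = 1 := by rw [sign_first, hs₁]
  have hs₂' : Perm.sign (first i p₂) = 1 := by rw [sign_first, hs₂]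
  have hs₃' : Perm.sign (first i (p₁ * p₂)) = 1 := by rw [sign_first, map_mul, hs₁, hs₂, one_mul]
  have hq₁' : first i p₁ * first i p₁ = 1 := by rw [← map_mul, hq₁, map_one]
  have hq₂' : first i p₂ * first i p₂ = 1 := by rw [← map_mul, hq₂, map_one]
  obtain ⟨g₁, hg₁, hg₁b⟩ := heven _ hs₁'
  set r := Nat.card K
  obtain ⟨hz₁, hz₁2⟩ := lift_sq_one (hodd y) hq₁' hg₁
  set z₁ := g₁ ^ r
  have hz₁b : z₁ b = b := Function.IsFixedPt.perm_pow hg₁b r
  obtain ⟨g₂, hg₂, -⟩ := heven _ hs₂'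
  -- adjust `g₂` to commute with `z₁`
  have hw : g₂ * z₁ * g₂⁻¹ ∈ lifts G y (first i p₁) := by
    have := lifts_mul (lifts_mul hg₂ hz₁) (lifts_inv hg₂)
    rwa [← map_mul, ← hcomm, map_mul, mul_inv_cancel_right] at this
  set v := z₁⁻¹ * (g₂ * z₁ * g₂⁻¹) with hv
  have hvK : v ∈ K := inv_mul_mem hz₁ hw
  have hz₁i : z₁⁻¹ = z₁ := inv_eq_of_mul_eq_one_right hz₁2
  have hwinv : (g₂ * z₁ * g₂⁻¹)⁻¹ = g₂ * z₁ * g₂⁻¹ := by
    rw [mul_inv_rev, mul_inv_rev, inv_inv, hz₁i, mul_assoc]
  have hinv : z₁ * v * z₁ = v⁻¹ := by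
    rw [hv, mul_inv_rev, inv_inv, hwinv, hz₁i, ← mul_assoc, ← mul_assoc, ← mul_assoc, hz₁2, one_mul]
  obtain ⟨c, hc⟩ := hodd y
  have hrc : r = 2 * c + 1 := hc
  set u := v ^ (c + 1) with hu
  have huu : u * u = v := by
    have h3 : (⟨v, hvK⟩ : K) ^ r = 1 := pow_card_eq_one'
    have h4 : v ^ r = 1 := congrArg Subtype.val h3
    rw [hu, ← pow_add, show c + 1 + (c + 1) = r + 1 by omega, pow_succ, h4, one_mul]
  have huinv : z₁ * u * z₁ = u⁻¹ := by
    have h := (conj_pow (i := c + 1) (a := z₁) (b := v)).symm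
    rw [hz₁i, hinv] at h
    rw [hu, h, inv_pow]
  have hgc : Commute z₁ (u * g₂) := by
    have h1 : u⁻¹ * z₁ * u = g₂ * z₁ * g₂⁻¹ := by
      calc u⁻¹ * z₁ * u = z₁ * u * (z₁ * z₁) * u := by rw [← huinv]; group
        _ = z₁ * (u * u) := by rw [hz₁2]; group
        _ = g₂ * z₁ * g₂⁻¹ := by rw [huu, hv, mul_inv_cancel_left]
    show z₁ * (u * g₂) = u * g₂ * z₁
    calc z₁ * (u * g₂) = u * (u⁻¹ * z₁ * u) * g₂ := by group
      _ = u * g₂ * z₁ := by rw [h1]; group
  have huK : u ∈ K := K.pow_mem hvK _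
  have hg' : u * g₂ ∈ lifts G y (first i p₂) := by
    have := lifts_mul (show u ∈ lifts G y 1 from huK) hg₂
    rwa [one_mul] at this
  obtain ⟨hz₂, hz₂2⟩ := lift_sq_one (hodd y) hq₂' hg'
  set z₂ := (u * g₂) ^ r
  have hz12 : Commute z₁ z₂ := hgc.pow_right r
  have hz₂b : z₂ b = b := unique_fixed hodd y p₁ hn₁ hz₁ hz₁2 O hOy hOodd hO' (hpres _ hs₁' _ hz₁)
    _ (hpres _ hs₂' _ hz₂ b hbO) b hbO
    (by rw [← Perm.mul_apply, hz12.eq, Perm.mul_apply, hz₁b]) hz₁b
  have hz₃ : z₁ * z₂ ∈ lifts G y (first i (p₁ * p₂)) := by rw [map_mul]; exact lifts_mul hz₁ hz₂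
  have hz₃2 : z₁ * z₂ * (z₁ * z₂) = 1 := by
    rw [hz12.symm.mul_mul_mul_comm, hz₁2, hz₂2, one_mul]
  -- each of the three has `b` as unique fixed point in `O`
  have hcent : ∀ p, p ≠ 1 → ∀ z ∈ lifts G y (first i p), z * z = 1 → Perm.sign (first i p) = 1 → z b = b →
      K ⊓ Subgroup.centralizer {z} ≤ stabilizer (Perm α) b := by
    intro p hp z hz hz2 hs hzb g hg
    have hgz : g * z = z * g := Subgroup.mem_centralizer_singleton_iff.1 hg.2
    have hgO : g b ∈ O := mem_filter.2 ⟨mem_univ _, g, hg.1, rfl⟩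
    exact unique_fixed hodd y p hp hz hz2 O hOy hOodd hO' (hpres _ hs _ hz) _ hgO b hbO
      (by rw [← Perm.mul_apply, ← hgz, Perm.mul_apply, hzb]) hzb
  have hpk : ∀ (z : Perm α), z * z = 1 → ∀ n : ℕ, z ^ n = if Even n then 1 else z := by
    intro z hz n
    induction n with
    | zero => simp
    | succ n ih =>
      rw [pow_succ, ih]
      by_cases hn : Even n
      · simp [hn, Nat.even_add_one]
      · simp [hn, Nat.even_add_one, hz]
  set A := Subgroup.closure ({z₁, z₂} : Set (Perm α))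
  have hAc : IsMulCommutative A := by
    refine Subgroup.isMulCommutative_closure ?_
    intro a ha b hb
    rcases ha with rfl | rfl <;> rcases hb with rfl | rfl
    exacts [rfl, hz12.eq, hz12.symm.eq, rfl]
  have hA2 : IsPGroup 2 A := by
    rintro ⟨a, ha⟩
    refine ⟨1, Subtype.ext ?_⟩
    rw [pow_one, SubmonoidClass.coe_pow, sq]
    induction ha using Subgroup.closure_induction with
    | mem x hx => rcases hx with rfl | rfl <;> assumption
    | one => simp
    | mul x z hx hz ih₁ ih₂ =>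
      have : x * z = z * x := congrArg Subtype.val (hAc.is_comm.comm ⟨x, hx⟩ ⟨z, hz⟩)
      rw [OneMemClass.coe_one] at *
      rw [Commute.mul_mul_mul_comm (show Commute z x from this.symm), ih₁, ih₂, one_mul]
    | inv x hx ih =>
      rw [OneMemClass.coe_one] at *
      rw [← mul_inv_rev, ih, inv_one]
  have hcop : (Nat.card A).Coprime (Nat.card K) := by
    have := Fact.mk Nat.prime_two
    obtain ⟨n, hn⟩ := hA2.exists_card_eq
    rw [hn]
    exact (Nat.coprime_two_left.2 (hodd y)).pow_left n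
  have hAK : A ≤ Subgroup.normalizer (K : Set (Perm α)) := by
    rw [Subgroup.closure_le]
    have hz : ∀ π, ∀ z ∈ lifts G y π, z ∈ Subgroup.normalizer (K : Set (Perm α)) := fun π z hz =>
      Coprime.mem_normalizer_of_forall fun k hk => hnorm π z hz k hk
    rintro z (rfl | rfl)
    exacts [hz _ _ hz₁, hz _ _ hz₂]
  have hKb : K ≤ stabilizer (Perm α) b := by
    refine Coprime.le_of_pair hAK hcop Nat.prime_two (Subgroup.subset_closure (Set.mem_insert _ _))
      (Subgroup.subset_closure (Set.mem_insert_of_mem _ rfl)) ?_ ?_ fun a c hac => ?_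
    · rw [sq, hz₁2]; exact one_mem _
    · rw [sq, hz₂2]; exact one_mem _
    · rw [hpk z₁ hz₁2 a, hpk z₂ hz₂2 c]
      by_cases ha : Even a <;> by_cases hc' : Even c
      · exact absurd ⟨ha.two_dvd, hc'.two_dvd⟩ hac
      · rw [if_pos ha, if_neg hc', one_mul]
        exact hcent p₂ hn₂ z₂ hz₂ hz₂2 hs₂' hz₂b
      · rw [if_neg ha, if_pos hc', mul_one]
        exact hcent p₁ hn₁ z₁ hz₁ hz₁2 hs₁' hz₁b
      · rw [if_neg ha, if_neg hc']
        exact hcent _ hn₃ _ hz₃ hz₃2 hs₃' (by rw [Perm.mul_apply, hz₂b, hz₁b])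
  have horb : orbit K b = {b} := by
    refine Set.eq_singleton_iff_unique_mem.2 ⟨mem_orbit_self b, ?_⟩
    rintro _ ⟨g, rfl⟩
    exact hKb g.2
  rw [hm, horb, Set.ncard_singleton]

end Cfsg.Agent.LivingstoneWagner
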