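import Cfsg.Agent.Lib.LivingstoneWagner.Reduced
import Cfsg.Agent.Lib.LivingstoneWagner.KSet
import Cfsg.Agent.Lib.MultiTrans.Basic
import Cfsg.Agent.S0736
import Cfsg.Agent.S0744

/-!
# The Livingstone–Wagner theorem (owner: helper77)

* `pred_transitive` : `k`-homogeneous, `4 ≤ 2k ≤ n` ⇒ `(k-1)`-transitive;
* `exceptions` : the groups that are `(k-2)`-transitive, `(k-1)`- and `k`-homogeneous, not
  `(k-1)`-transitive;
* `transitive` : `k`-homogeneous, `10 ≤ 2k ≤ n` ⇒ `k`-transitive.
-/

set_option autoImplicit false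
set_option linter.unusedSectionVars false

open Equiv MulAction Finset

namespace Cfsg.Agent.LivingstoneWagner

universe u

variable {α : Type u} [Fintype α] [DecidableEq α] {k : ℕ} {G : Subgroup (Perm α)}

theorem pred_homog (hk : 2 ≤ k) (hkn : 2 * k ≤ Fintype.card α)
    (hG : IsPretransitive G (Set.powersetCard α k)) : IsPretransitive G (Set.powersetCard α (k - 1)) :=
  S0736.result G hk hG fun q _ hd => by
    have := Nat.le_of_dvd (by omega) hd
    omega

/-- Trivial pointwise stabilisers of `(k-1)`-sets, or `(k-1)`-transitivity. -/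
theorem semi_or_transitive (hk : 2 ≤ k) (hkn : k ≤ Fintype.card α)
    (h1 : IsPretransitive G (Set.powersetCard α (k - 1))) (h2 : IsPretransitive G (Set.powersetCard α k)) :
    IsMultiplyPretransitive G α (k - 1) ∨ Semi G (k - 2) := by
  obtain ⟨s₁, -, hs₁⟩ := Finset.exists_subset_card_eq (n := k - 1) (s := (univ : Finset α))
    (by rw [card_univ]; omega)
  obtain ⟨s₂, -, hs₂⟩ := Finset.exists_subset_card_eq (n := k) (s := (univ : Finset α))
    (by rw [card_univ]; omega)
  by_cases hl : 1 < Nat.card (fixingSubgroup G (s₁ : Set α))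
  · exact Or.inl (S0744.result G (by omega) hkn _ _ hl
      (fun s hs => (homog_of_pretransitive h1).card_fixing hs hs₁)
      (fun s hs => (homog_of_pretransitive h2).card_fixing hs hs₂))
  · refine Or.inr fun g hg hg1 => ?_
    by_contra hf
    obtain ⟨s, hsf, hs⟩ := Finset.exists_subset_card_eq (n := k - 1) (s := fixF g) (by omega)
    rw [(homog_of_pretransitive h1).card_fixing hs₁ hs] at hl
    have h3 : Subsingleton (fixingSubgroup G (s : Set α)) :=
      Finite.card_le_one_iff_subsingleton.1 (by omega)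
    have hm : (⟨g, hg⟩ : G) ∈ fixingSubgroup G (s : Set α) :=
      (mem_fixingSubgroup_iff _).2 fun x hx => mem_fixF.1 (hsf hx)
    exact hg1 (congrArg (fun z : fixingSubgroup G (s : Set α) => ((z : G) : Perm α))
      (Subsingleton.elim (⟨⟨g, hg⟩, hm⟩ : fixingSubgroup G (s : Set α)) 1))

/-- **`(k-1)`-transitivity.** -/
theorem pred_transitive : ∀ k : ℕ, 2 ≤ k → 2 * k ≤ Fintype.card α →
    IsPretransitive G (Set.powersetCard α k) → IsMultiplyPretransitive G α (k - 1) := by
  intro k
  induction k with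
  | zero => intro h; omega
  | succ k ih =>
    intro hk hkn hG
    have h1 := pred_homog hk hkn hG
    simp only [Nat.add_sub_cancel] at h1 ⊢
    rcases eq_or_lt_of_le hk with h | h
    · obtain rfl : k = 1 := by omega
      exact transitive_of_pretransitive_one h1
    rcases semi_or_transitive hk (by omega) (by simpa using h1) hG with ht | hs
    · simpa using ht
    by_contra hnot
    have hT := ih (by omega) (by omega) h1
    rcases reduced (k + 1) (by omega) (by omega) (by simpa using hT) (by simpa using h1) hG hs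
      (by simpa using hnot) with ⟨a, b, -⟩ | ⟨a, b, -⟩ | ⟨a, b, -⟩ <;> omega

/-- **The exceptions.** -/
theorem exceptions (hk : 3 ≤ k) (hkn : k ≤ Fintype.card α)
    (ht : IsMultiplyPretransitive G α (k - 2)) (hnt : ¬ IsMultiplyPretransitive G α (k - 1))
    (h1 : IsPretransitive G (Set.powersetCard α (k - 1))) (h2 : IsPretransitive G (Set.powersetCard α k)) :
    (k = Fintype.card α ∧ G = alternatingGroup α) ∨ (Fintype.card α = 5 ∧ k = 4 ∧ Nat.card G = 20) ∨
      (Fintype.card α = 6 ∧ k = 5 ∧ Nat.card G = 120) ∨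
      (Fintype.card α = 9 ∧ k = 5 ∧ (Nat.card G = 504 ∨ Nat.card G = 1512)) := by
  rcases eq_or_lt_of_le hkn with hk' | hk'
  · left
    refine ⟨hk', ?_⟩
    have hA := MultiTrans.le_of_tail (m := k - 2) (by omega) (by omega) ht
    have hne : G ≠ ⊤ := by
      intro htop
      apply hnt
      rw [isMultiplyPretransitive_iff]
      intro x y
      obtain ⟨σ, hσ⟩ := Equiv.Perm.exists_smul_eq_embedding x y
      exact ⟨⟨σ, htop ▸ Subgroup.mem_top σ⟩, hσ⟩
    have : Nontrivial α := Fintype.one_lt_card_iff_nontrivial.1 (by omega)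
    have h3 : G.index ∣ 2 := alternatingGroup.index_eq_two (α := α) ▸ Subgroup.index_dvd_of_le hA
    have h4 : G.index = 2 := by
      rcases (Nat.dvd_prime Nat.prime_two).1 h3 with h | h
      · exact absurd (Subgroup.index_eq_one.1 h) hne
      · exact h
    refine (Subgroup.eq_of_le_of_card_ge hA ?_).symm
    have h5 := G.card_mul_index
    have h6 := two_mul_nat_card_alternatingGroup (α := α)
    rw [h4] at h5
    omega
  · rcases semi_or_transitive (by omega) hkn h1 h2 with h | h
    · exact absurd h hnt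
    exact Or.inr (reduced k hk hk' ht h1 h2 h hnt)

/-- A transitive alternating group: moving one point to another by an even permutation. -/
theorem exists_even_apply {s : Finset α} (hs : 3 ≤ s.card) (u v : s) :
    ∃ σ : Perm s, Perm.sign σ = 1 ∧ σ u = v := by
  rcases eq_or_ne u v with rfl | huv
  · exact ⟨1, map_one _, rfl⟩
  obtain ⟨d, -, hd⟩ := exists_mem_notMem_of_card_lt_card (s := ({u, v} : Finset s)) (t := univ)
    (by rw [card_univ, Fintype.card_coe]; exact lt_of_le_of_lt card_le_two (by omega))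
  simp only [Finset.mem_insert, Finset.mem_singleton, not_or] at hd
  refine ⟨swap u d * swap u v, ?_, ?_⟩
  · rw [map_mul, Perm.sign_swap huv, Perm.sign_swap (Ne.symm hd.1)]; rfl
  · rw [Perm.mul_apply, swap_apply_left, swap_apply_of_ne_of_ne (Ne.symm huv) (Ne.symm hd.2)]

/-- **`k`-transitivity.** -/
theorem transitive (hk : 5 ≤ k) (hkn : 2 * k ≤ Fintype.card α)
    (hG : IsPretransitive G (Set.powersetCard α k)) : IsMultiplyPretransitive G α k := by
  obtain ⟨j, rfl⟩ : ∃ j, k = j + 1 := ⟨k - 1, by omega⟩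
  have hT : IsMultiplyPretransitive G α j := pred_transitive (j + 1) (by omega) hkn hG
  have hH := homog_of_pretransitive hG
  obtain ⟨Δ₀, hΔ₀, hA⟩ := exists_alternating (k := j) (by omega) _ α G rfl (by omega) hT
  have halt : ∀ s : Finset α, s.card = j + 1 → alternatingGroup s ≤ Ind G s := fun s hs =>
    hH.alternating_le hΔ₀ hs hA
  by_contra hnot
  have heven : ∀ s : Finset α, s.card = j + 1 → ∀ σ ∈ Ind G s, Perm.sign σ = 1 := by
    intro s hs σ hσ
    rcases Int.units_eq_one_or (Perm.sign σ) with h | h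
    · exact h
    exfalso
    refine hnot (transitive_of_ind_top hH fun t ht => ?_)
    obtain ⟨τ, hτ, hτs⟩ := hH.exists_sign hs ht ⟨σ, hσ, h⟩
    rw [eq_top_iff]
    intro ρ _
    rcases Int.units_eq_one_or (Perm.sign ρ) with h' | h'
    · exact halt t ht (Perm.mem_alternatingGroup.2 h')
    · have h3 : τ⁻¹ * ρ ∈ Ind G t := halt t ht (Perm.mem_alternatingGroup.2 (by
        rw [map_mul, map_inv, hτs, h']; rfl))
      have h4 := (Ind G t).mul_mem hτ h3
      rwa [mul_inv_cancel_left] at h4
  obtain ⟨y⟩ : Nonempty (Fin j ↪ α) :=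
    Function.Embedding.nonempty_of_card_le (by rw [Fintype.card_fin]; omega)
  obtain ⟨b, -, hb'⟩ := exists_mem_notMem_of_card_lt_card (s := univ.map y) (t := univ)
    (by rw [card_map, card_univ, card_univ, Fintype.card_fin]; omega)
  have hby : ∀ c, y c ≠ b := fun c hc => hb' (mem_map.2 ⟨c, mem_univ _, hc⟩)
  have hΔb : ∀ (x : Fin j ↪ α) (c : α), (∀ i, x i ≠ c) → (insert c (univ.map x)).card = j + 1 := by
    intro x c hc
    rw [card_insert_of_notMem (fun h => by obtain ⟨i, -, hi⟩ := mem_map.1 h; exact hc i hi),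
      card_map, card_univ, Fintype.card_fin]
  -- a lift fixing the further point is even
  have hodd_move : ∀ (π : Perm (Fin j)) (g : Perm α), g ∈ lifts G y π → g b = b → Perm.sign π = 1 := by
    intro π g hg hgb
    set Δ : Finset α := insert b (univ.map y)
    set b' : Δ := ⟨b, mem_insert_self _ _⟩
    let e : Fin j ≃ {z : Δ // z ≠ b'} :=
      Equiv.ofBijective (fun i => ⟨⟨y i, mem_insert_of_mem (mem_map.2 ⟨i, mem_univ _, rfl⟩)⟩,
        fun h => hby i (Subtype.mk.inj h)⟩)
        ⟨fun a c h => y.injective (Subtype.mk.inj (Subtype.mk.inj h)), fun z => by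
          rcases Finset.mem_insert.1 z.1.2 with h | h
          · exact absurd (Subtype.ext h) z.2
          · obtain ⟨i, -, hi⟩ := mem_map.1 h; exact ⟨i, Subtype.ext (Subtype.ext hi)⟩⟩
    rw [← Perm.sign_extendDomain π e]
    refine heven Δ (hΔb y b hby) _ ⟨g, hg.1, fun z => ?_⟩
    by_cases hz : z = b'
    · rw [hz, Perm.extendDomain_apply_not_subtype π e (by simp)]; exact hgb
    · obtain ⟨i, hi⟩ := e.surjective ⟨z, hz⟩
      have hz' : z = (e i).1 := by rw [hi]
      rw [hz', Perm.extendDomain_apply_image]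
      exact hg.2 i
  -- the stabiliser has odd order
  have hodd : ∀ x : Fin j ↪ α, Odd (Nat.card (kp G x)) := by
    intro x
    rw [← Nat.not_even_iff_odd]
    intro hev
    have := Fact.mk Nat.prime_two
    obtain ⟨w, hw⟩ := exists_prime_orderOf_dvd_card' 2 hev.two_dvd
    have hw2 : (w : Perm α) * w = 1 := by
      have h := pow_orderOf_eq_one w; rw [hw, sq] at h; exact congrArg Subtype.val h
    have hw1 : (w : Perm α) ≠ 1 := fun e' => by
      rw [show w = 1 from Subtype.ext e', orderOf_one] at hw; omega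
    have hsub : univ.map x ⊆ fixF (w : Perm α) := fun z hz => by
      obtain ⟨c, -, rfl⟩ := mem_map.1 hz; exact mem_fixF.2 (w.2.2 c)
    have hc := card_le_card hsub
    rw [card_map, card_univ, Fintype.card_fin] at hc
    obtain ⟨σ, hσ, hsig⟩ := exists_odd_of_involution hH w.2.1 hw2 hw1 (by omega) (by omega) hΔ₀
    rw [heven Δ₀ hΔ₀ σ hσ] at hsig
    exact absurd hsig (by decide)
  -- two orbits outside the tuple
  set O := orbit (kp G y) b
  have hmove : ∀ c, (∀ i, y i ≠ c) → ∃ π, ∃ g ∈ lifts G y π, g b = c := by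
    intro c hc
    obtain ⟨g, hg, hgm⟩ := hH (insert b (univ.map y)) (insert c (univ.map y)) (hΔb y b hby) (hΔb y c hc)
    obtain ⟨σ, hσ, hσu⟩ := exists_even_apply (s := insert c (univ.map y)) (by rw [hΔb y c hc]; omega)
      ⟨g b, (hgm b).2 (mem_insert_self _ _)⟩ ⟨c, mem_insert_self _ _⟩
    obtain ⟨a, ha, haσ⟩ := halt _ (hΔb y c hc) (Perm.mem_alternatingGroup.2 hσ)
    have hagb : (a * g) b = c := by
      rw [Perm.mul_apply]
      exact (haσ ⟨g b, (hgm b).2 (mem_insert_self _ _)⟩).trans (congrArg Subtype.val hσu)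
    have hmem : ∀ i, ∃ d, y d = (a * g) (y i) := by
      intro i
      have h0 : g (y i) ∈ insert c (univ.map y) :=
        (hgm _).2 (mem_insert_of_mem (mem_map.2 ⟨i, mem_univ _, rfl⟩))
      have h1 : (a * g) (y i) ∈ insert c (univ.map y) := by
        rw [Perm.mul_apply, haσ ⟨g (y i), h0⟩]
        exact Subtype.mem _
      rcases Finset.mem_insert.1 h1 with h | h
      · exact absurd ((a * g).injective (h.trans hagb.symm)) (hby i)
      · obtain ⟨d, -, hd⟩ := mem_map.1 h; exact ⟨d, hd⟩
    choose f hf using hmem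
    have hfi : Function.Injective f := fun u v e =>
      y.injective ((a * g).injective (by rw [← hf, ← hf, e]))
    exact ⟨Equiv.ofBijective f (Finite.injective_iff_bijective.1 hfi), a * g,
      ⟨G.mul_mem ha hg, fun i => (hf i).symm⟩, hagb⟩
  have hL := evenLift_of_ind y b hby (halt _ (hΔb y b hby))
  have heven' : ∀ π, Perm.sign π = 1 → ∀ g ∈ lifts G y π, g b ∈ O := by
    intro π hπ g hg
    obtain ⟨g₀, hg₀, hg₀b⟩ := hL π hπ
    have hk : g₀ * (g₀⁻¹ * g) * g₀⁻¹ ∈ kp G y := by
      have := lifts_mul (lifts_mul hg₀ (show g₀⁻¹ * g ∈ lifts G y 1 from inv_mul_mem hg₀ hg)) (lifts_inv hg₀)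
      rwa [mul_one, mul_inv_cancel] at this
    refine ⟨⟨_, hk⟩, ?_⟩
    show (g₀ * (g₀⁻¹ * g) * g₀⁻¹) b = g b
    have e1 : g₀⁻¹ b = b := by rw [Perm.inv_def, Equiv.symm_apply_eq]; exact hg₀b.symm
    rw [Perm.mul_apply, e1, show g₀ * (g₀⁻¹ * g) = g by group]
  set τ : Perm (Fin j) := swap ⟨0, by omega⟩ ⟨1, by omega⟩
  have hτ : Perm.sign τ = -1 := Perm.sign_swap (by simp)
  obtain ⟨g₁, hg₁⟩ := lifts_nonempty hT y τ
  have hOout : ∀ c ∈ O, ∀ i, y i ≠ c := by
    rintro _ ⟨k, rfl⟩ i hi
    exact hby i ((k : Perm α).injective ((k.2.2 i).trans hi))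
  have hunion : {c | ∀ i, y i ≠ c} = O ∪ (g₁ '' O) := by
    ext c
    constructor
    · intro hc
      obtain ⟨π, g, hg, hgb⟩ := hmove c hc
      rcases Int.units_eq_one_or (Perm.sign π) with h | h
      · exact Or.inl (hgb ▸ heven' π h g hg)
      · refine Or.inr ⟨(g₁⁻¹ * g) b, heven' (τ⁻¹ * π) (by rw [map_mul, map_inv, hτ, h]; rfl) _
          (lifts_mul (lifts_inv hg₁) hg), ?_⟩
        rw [← Perm.mul_apply, mul_inv_cancel_left, hgb]
    · rintro (hc | ⟨d, hd, rfl⟩) i
      · exact hOout c hc i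
      · intro hi
        obtain ⟨i, rfl⟩ := τ.surjective i
        rw [← hg₁.2] at hi
        exact hOout d hd i (g₁.injective hi)
  have hdis : Disjoint O (g₁ '' O) := by
    rw [Set.disjoint_left]
    rintro _ ⟨k, hk⟩ ⟨d, ⟨k', rfl⟩, e⟩
    have e' : g₁ ((k' : Perm α) b) = (k : Perm α) b := e.trans hk.symm
    have hg : (k : Perm α)⁻¹ * g₁ * k' ∈ lifts G y τ := by
      have := lifts_mul (lifts_mul (lifts_inv (show (k : Perm α) ∈ lifts G y 1 from k.2)) hg₁)
        (show (k' : Perm α) ∈ lifts G y 1 from k'.2)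
      simpa using this
    have := hodd_move τ _ hg (by rw [Perm.mul_apply, Perm.mul_apply, e', Perm.inv_def, Equiv.symm_apply_apply])
    rw [hτ] at this
    exact absurd this (by decide)
  have hcard : Fintype.card α - j = 2 * O.ncard := by
    have h1 : ({c | ∀ i, y i ≠ c} : Set α).ncard = Fintype.card α - j := by
      rw [show {c | ∀ i, y i ≠ c} = (↑(univ.map y) : Set α)ᶜ by ext c; simp, Set.ncard_compl,
        Set.ncard_coe_finset, card_map, card_univ, Fintype.card_fin, Nat.card_eq_fintype_card]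
    rw [← h1, hunion, Set.ncard_union_eq hdis, Set.ncard_image_of_injective _ g₁.injective, two_mul]
  have := split (by omega : 4 ≤ j) hodd y b hby hL hcard
  omega

end Cfsg.Agent.LivingstoneWagner
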