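import Cfsg.Agent.Lib.LivingstoneWagner.Sporadic
import Cfsg.Agent.Lib.LivingstoneWagner.Klein

/-!
# The semiregular case of Livingstone–Wagner (owner: helper77)

`G` is `(k-2)`-transitive, homogeneous on `(k-1)`- and `k`-sets, `k < n`, only the identity fixes
`k-1` points and `G` is not `(k-1)`-transitive. Then `(n, k, |G|)` is one of `(5, 4, 20)`, `(6, 5, 120)`,
`(9, 5, 504)`, `(9, 5, 1512)`.
-/

set_option autoImplicit false
set_option linter.unusedSectionVars false

open Equiv MulAction Finset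

namespace Cfsg.Agent.LivingstoneWagner

variable {α : Type*} [Fintype α] [DecidableEq α] {j : ℕ} {G : Subgroup (Perm α)}

theorem Semi.triv {k : ℕ} (hs : Semi G j) (hk : j < k) {s : Finset α} (h : s.card = k) :
    ∀ g ∈ G, (∀ x ∈ s, g x = x) → g = 1 := by
  intro g hg hfix
  by_contra h1
  have h2 := hs g hg h1
  have h3 : s ⊆ fixF g := fun x hx => mem_fixF.2 (hfix x hx)
  have := card_le_card h3
  omega

theorem numeric_four (t a e : ℕ) (ht : t ∣ 6) (hta : t * a ∣ 24) (het : e * t = a + 1) (hodd : Odd e)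
    (h2 : 2 ≤ t) (ha : 2 ≤ a) : (t = 3 ∧ a = 2 ∧ e = 1) ∨ (t = 3 ∧ a = 8 ∧ e = 3) := by
  have ha24 : a ∈ Nat.divisors 24 := Nat.mem_divisors.2 ⟨dvd_trans (dvd_mul_left a t) hta, by norm_num⟩
  have ht6 : t ∈ Nat.divisors 6 := Nat.mem_divisors.2 ⟨ht, by norm_num⟩
  rw [show Nat.divisors 24 = {1, 2, 3, 4, 6, 8, 12, 24} by decide] at ha24
  rw [show Nat.divisors 6 = {1, 2, 3, 6} by decide] at ht6
  simp only [Finset.mem_insert, Finset.mem_singleton] at ha24 ht6
  rw [Nat.odd_iff] at hodd
  rcases ht6 with rfl | rfl | rfl | rfl <;>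
    rcases ha24 with rfl | rfl | rfl | rfl | rfl | rfl | rfl | rfl <;>
    omega

theorem numeric_five (t a e : ℕ) (ht : t ∣ 24) (hta : t * a ∣ 120) (het : e * t = a + 1) (hodd : Odd e)
    (h2 : 2 ≤ t) (ha : 2 ≤ a) :
    (t = 3 ∧ a = 2 ∧ e = 1) ∨ (t = 2 ∧ a = 5 ∧ e = 3) ∨ (t = 6 ∧ a = 5 ∧ e = 1) ∨
      (t = 4 ∧ a = 3 ∧ e = 1) ∨ (t = 3 ∧ a = 8 ∧ e = 3) ∨ (t = 3 ∧ a = 20 ∧ e = 7) := by
  have ha' : a ∈ Nat.divisors 120 := Nat.mem_divisors.2 ⟨dvd_trans (dvd_mul_left a t) hta, by norm_num⟩
  have ht' : t ∈ Nat.divisors 24 := Nat.mem_divisors.2 ⟨ht, by norm_num⟩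
  rw [show Nat.divisors 120 = {1, 2, 3, 4, 5, 6, 8, 10, 12, 15, 20, 24, 30, 40, 60, 120} by decide] at ha'
  rw [show Nat.divisors 24 = {1, 2, 3, 4, 6, 8, 12, 24} by decide] at ht'
  simp only [Finset.mem_insert, Finset.mem_singleton] at ha' ht'
  rw [Nat.odd_iff] at hodd
  rcases ht' with rfl | rfl | rfl | rfl | rfl | rfl | rfl | rfl <;>
    rcases ha' with rfl | rfl | rfl | rfl | rfl | rfl | rfl | rfl | rfl | rfl | rfl | rfl | rfl | rfl | rfl | rfl <;>
    omega

/-- **The semiregular case.** -/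
theorem reduced (k : ℕ) (hk : 3 ≤ k) (hkn : k < Fintype.card α)
    (hT : IsMultiplyPretransitive G α (k - 2))
    (h1 : IsPretransitive G (Set.powersetCard α (k - 1))) (h2 : IsPretransitive G (Set.powersetCard α k))
    (hs : Semi G (k - 2)) (hnot : ¬ IsMultiplyPretransitive G α (k - 1)) :
    (Fintype.card α = 5 ∧ k = 4 ∧ Nat.card G = 20) ∨ (Fintype.card α = 6 ∧ k = 5 ∧ Nat.card G = 120) ∨
      (Fintype.card α = 9 ∧ k = 5 ∧ (Nat.card G = 504 ∨ Nat.card G = 1512)) := by
  obtain ⟨j, rfl⟩ : ∃ j, k = j + 2 := ⟨k - 2, by omega⟩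
  simp only [Nat.add_sub_cancel, show j + 2 - 1 = j + 1 from rfl] at *
  set n := Fintype.card α
  obtain ⟨Δ, -, hΔ⟩ := Finset.exists_subset_card_eq (n := j + 2) (s := (univ : Finset α))
    (by rw [card_univ]; omega)
  obtain ⟨y⟩ : Nonempty (Fin j ↪ α) :=
    Function.Embedding.nonempty_of_card_le (by rw [Fintype.card_fin]; omega)
  set e := Nat.card (kp G y) with hedef
  have hH1 := homog_of_pretransitive h1
  have hH2 := homog_of_pretransitive h2
  obtain ⟨Γ, -, hΓ⟩ := Finset.exists_subset_card_eq (n := j + 1) (s := (univ : Finset α))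
    (by rw [card_univ]; omega)
  set I := Nat.card (Ind G Γ) with hIdef
  set t := (Ind G Γ).index with htdef
  have hI : ∀ s : Finset α, s.card = j + 1 → Nat.card (Ind G s) * n.choose (j + 1) = Nat.card G :=
    fun s hs' => card_ind h1 hs' (hs.triv (by omega) hs')
  have hI2 : ∀ s : Finset α, s.card = j + 2 → Nat.card (Ind G s) * n.choose (j + 2) = Nat.card G :=
    fun s hs' => card_ind h2 hs' (hs.triv (by omega) hs')
  have htI : I * t = (j + 1).factorial := by
    rw [hIdef, htdef, Subgroup.card_mul_index, Nat.card_perm, Nat.card_eq_fintype_card, Fintype.card_coe, hΓ]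
  have ht2 : 2 ≤ t := by
    by_contra h
    have h0 : t ≠ 0 := Subgroup.index_ne_zero_of_finite
    have htop : Ind G Γ = ⊤ := Subgroup.index_eq_one.1 (by omega)
    exact hnot (transitive_of_ind_top hH1 fun s hs' => hH1.ind_top hΓ hs' htop)
  have hG : Nat.card G = n.descFactorial j * e := card_group hT y
  have hdp : 0 < n.descFactorial j := Nat.descFactorial_pos.2 (by omega)
  have het : e * t = n - j := by
    refine Nat.eq_of_mul_eq_mul_left hdp ?_
    calc n.descFactorial j * (e * t) = Nat.card G * t := by rw [hG, mul_assoc]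
      _ = I * t * n.choose (j + 1) := by rw [← hI Γ hΓ]; ring
      _ = n.descFactorial (j + 1) := by rw [htI, Nat.descFactorial_eq_factorial_mul_choose]
      _ = n.descFactorial j * (n - j) := by rw [Nat.descFactorial_succ, mul_comm]
  have hII : ∀ s : Finset α, s.card = j + 2 → Nat.card (Ind G s) * (n - (j + 1)) = I * (j + 2) := by
    intro s hs'
    refine Nat.eq_of_mul_eq_mul_right (Nat.choose_pos (show j + 1 ≤ n by omega)) ?_
    calc Nat.card (Ind G s) * (n - (j + 1)) * n.choose (j + 1)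
        = Nat.card (Ind G s) * (n.choose (j + 1 + 1) * (j + 1 + 1)) := by
          rw [Nat.choose_succ_right_eq]; ring
      _ = Nat.card G * (j + 2) := by rw [← hI2 s hs', ← mul_assoc]
      _ = I * (j + 2) * n.choose (j + 1) := by rw [← hI Γ hΓ]; ring
  have hdvd : t * (n - (j + 1)) ∣ (j + 2).factorial := ⟨Nat.card (Ind G Δ), by
    calc (j + 2).factorial = (j + 2) * (I * t) := by rw [htI]; rfl
      _ = t * (I * (j + 2)) := by ring
      _ = t * (Nat.card (Ind G Δ) * (n - (j + 1))) := by rw [hII Δ hΔ]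
      _ = t * (n - (j + 1)) * Nat.card (Ind G Δ) := by ring⟩
  have htdvd : t ∣ (j + 1).factorial := ⟨I, by rw [← htI, mul_comm]⟩
  -- an involution with `j - 1` fixed points contradicts `t = 2`
  have hno : t = 2 → ∀ x ∈ G, x * x = 1 → x ≠ 1 → j - 1 ≤ (fixF x).card → False := by
    intro ht x hx hx2 hx1 hxf
    obtain ⟨σ, hσ, hsig⟩ := exists_odd_of_involution hH1 hx hx2 hx1 (by omega)
      (by omega : j + 1 - 2 ≤ (fixF x).card) hΓ
    rw [ind_eq_alternating (htdef ▸ ht)] at hσ
    rw [Perm.mem_alternatingGroup.1 hσ] at hsig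
    exact absurd hsig (by decide)
  have hodd' : ∀ x : Fin j ↪ α, Odd e → Odd (Nat.card (kp G x)) := fun x h => by rwa [card_kp_eq hT x y]
  rcases (show j = 1 ∨ 2 ≤ j by omega) with rfl | hj
  · -- `k = 3`
    exfalso
    have ht : t = 2 := le_antisymm (Nat.le_of_dvd (by norm_num) htdvd) ht2
    have hI1 : I = 1 := by rw [ht] at htI; simp only [Nat.factorial] at htI; omega
    have h3 := hII Δ hΔ
    rw [hI1, one_mul] at h3
    have hn5 : n = 5 := by
      have h4 : n - 2 ∣ 3 := ⟨Nat.card (Ind G Δ), by rw [mul_comm]; exact h3.symm⟩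
      rcases (Nat.dvd_prime Nat.prime_three).1 h4 with h | h <;> omega
    have h2G : 2 ∣ Nat.card G := by
      rw [← hI Γ hΓ, ← hIdef, hI1, hn5]; exact ⟨5, by decide⟩
    have := Fact.mk Nat.prime_two
    obtain ⟨x, hx⟩ := exists_prime_orderOf_dvd_card' 2 h2G
    exact hno ht x x.2
      (by have h := pow_orderOf_eq_one x; rw [hx, sq] at h; exact congrArg Subtype.val h)
      (fun e' => by rw [show x = 1 from Subtype.ext e', orderOf_one] at hx; omega) (by omega)
  have hodd : Odd e := by
    rw [← Nat.not_even_iff_odd]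
    intro hev
    obtain ⟨i, rfl⟩ : ∃ i, j = i + 2 := ⟨j - 2, by omega⟩
    have hb := le_two_mul_of_even hT hs (show i + 2 ≤ Fintype.card α by omega) y hev
    have ht : t = 2 := by
      refine le_antisymm (Nat.le_of_mul_le_mul_left ?_ (Nat.card_pos (α := kp G y))) ht2
      rw [← hedef, het, mul_comm e 2]
      exact hb
    have := Fact.mk Nat.prime_two
    obtain ⟨x, hx⟩ := exists_prime_orderOf_dvd_card' 2 hev.two_dvd
    have hx1 : (x : Perm α) ≠ 1 := fun e' => by
      rw [show x = 1 from Subtype.ext e', orderOf_one] at hx; omega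
    have hsub : univ.map y ⊆ fixF (x : Perm α) := fun z hz => by
      obtain ⟨c, -, rfl⟩ := mem_map.1 hz; exact mem_fixF.2 (x.2.2 c)
    have hc := card_le_card hsub
    rw [card_map, card_univ, Fintype.card_fin] at hc
    exact hno ht x x.2.1
      (by have h := pow_orderOf_eq_one x; rw [hx, sq] at h; exact congrArg Subtype.val h) hx1 (by omega)
  rcases (show j = 2 ∨ j = 3 ∨ 4 ≤ j by omega) with rfl | rfl | hj4
  · -- `k = 4`
    rcases numeric_four t (n - 3) e (by simpa [Nat.factorial] using htdvd)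
        (by simpa [Nat.factorial] using hdvd) (by omega) hodd ht2 (by
          by_contra h
          have : n - 2 ≤ 2 := by omega
          have h3 : n = 4 ∨ n = 3 := by omega
          omega) with
      ⟨h3, ha, he1⟩ | ⟨h3, ha, he3⟩
    · have hn : n = 5 := by omega
      exact Or.inl ⟨hn, rfl, by rw [hG, hn, he1]; rfl⟩
    · exfalso
      have hI2' : I = 2 := by rw [h3] at htI; simp [Nat.factorial] at htI; omega
      refine not_eleven (G := G) (by omega) (fun s hs' => ?_)
        (by rw [← hI Γ hΓ, ← hIdef, hI2']; exact dvd_mul_right 2 _) (fun x hx hx2 hx1 => ?_)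
      · have := hII s hs'
        rw [hI2', show n - (2 + 1) = 8 by omega] at this
        omega
      · exact card_fix_lt (fun z => hodd' z hodd) hx hx2 hx1
  · -- `k = 5`
    have hinv : ∀ x ∈ G, x * x = 1 → x ≠ 1 → (fixF x).card < 3 := fun x hx hx2 hx1 =>
      card_fix_lt (fun z => hodd' z hodd) hx hx2 hx1
    rcases numeric_five t (n - 4) e (by simpa [Nat.factorial] using htdvd)
        (by simpa [Nat.factorial] using hdvd) (by omega) hodd ht2 (by
          by_contra h
          omega) with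
      ⟨-, ha, he'⟩ | ⟨-, ha, he'⟩ | ⟨-, ha, he'⟩ | ⟨h3, ha, he'⟩ | ⟨h3, ha, he'⟩ | ⟨-, ha, he'⟩
    · have hn : n = 6 := by omega
      exact Or.inr (Or.inl ⟨hn, rfl, by rw [hG, hn, he']; rfl⟩)
    · have hn : n = 9 := by omega
      exact Or.inr (Or.inr ⟨hn, rfl, Or.inr (by rw [hG, hn, he']; rfl)⟩)
    · have hn : n = 9 := by omega
      exact Or.inr (Or.inr ⟨hn, rfl, Or.inl (by rw [hG, hn, he']; rfl)⟩)
    · exfalso
      have hI' : I = 6 := by rw [h3] at htI; simp [Nat.factorial] at htI; omega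
      exact not_seven (G := G) (show Fintype.card α = 7 by omega) hΓ hI' (hs.triv (by omega) hΓ) hinv
    · exfalso
      have hI' : I = 8 := by rw [h3] at htI; simp [Nat.factorial] at htI; omega
      refine not_twelve (G := G) (show Fintype.card α = 12 by omega) hΓ hI' (fun u hu => ?_)
        (hs.triv (by omega) hΓ) hinv
      have := hII u hu
      rw [hI', show n - (3 + 1) = 8 by omega] at this
      omega
    · exact (not_twenty_four hT (show Fintype.card α = 24 by omega) hs y he').elim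
  · -- `k ≥ 6`
    exfalso
    rcases bound hj4 (by omega) hT hs y with hb | ⟨h7, he1, hj5⟩
    · have ht : t = 2 := by
        refine le_antisymm (Nat.le_of_mul_le_mul_left ?_ (Nat.card_pos (α := kp G y))) ht2
        rw [← hedef, het, mul_comm e 2]
        exact hb
      have halt : ∀ s : Finset α, s.card = j + 1 → alternatingGroup s ≤ Ind G s := fun s hs' =>
        hH1.alternating_le hΓ hs' (Perm.alternatingGroup_le_of_index_le_two (htdef ▸ ht.le))
      obtain ⟨b, -, hb'⟩ := exists_mem_notMem_of_card_lt_card (s := univ.map y) (t := univ)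
        (by rw [card_map, card_univ, card_univ, Fintype.card_fin]; omega)
      have hby : ∀ c, y c ≠ b := fun c hc => hb' (mem_map.2 ⟨c, mem_univ _, hc⟩)
      have h := split hj4 (fun z => hodd' z hodd) y b hby
        (evenLift_of_ind y b hby (halt _ (by rw [card_insert_of_notMem hb', card_map, card_univ, Fintype.card_fin])))
        (by rw [ncard_orbit_kp hs y hby, ← hedef, mul_comm, ← ht, het])
      omega
    · rw [he1] at hedef
      have ht7 : t = 7 := by rw [hedef, one_mul] at het; omega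
      rw [ht7] at htdvd
      rcases (show j = 4 ∨ j = 5 by omega) with rfl | rfl <;> exact absurd htdvd (by decide)

end Cfsg.Agent.LivingstoneWagner
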