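import Cfsg.Agent.Lib.LivingstoneWagner.Homog

/-!
# The small exceptional parameter sets (owner: helper77)

Semiregular `(k-2)`-transitive, `k`- and `(k-1)`-homogeneous groups with `(n, k)` one of
`(11, 4)`, `(12, 5)`, `(24, 5)`, `(7, 5)` do not exist.
-/

set_option autoImplicit false
set_option linter.unusedSectionVars false

open Equiv MulAction Finset

namespace Cfsg.Agent.LivingstoneWagner

variable {α : Type*} [Fintype α] [DecidableEq α] {G : Subgroup (Perm α)}

/-- An involution with a fixed point preserves a set made of fixed points and two of its pairs. -/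
theorem exists_invariant {x : Perm α} (h2 : x * x = 1) (hf : 1 ≤ (fixF x).card) (r : ℕ) (hr : r ≤ 1)
    (hs : 4 ≤ Fintype.card α - (fixF x).card) :
    ∃ s : Finset α, s.card = r + 4 ∧ (∀ a ∈ s, x a ∈ s) ∧ ∃ a ∈ s, x a ≠ a := by
  have hxx : ∀ a, x (x a) = a := fun a => by rw [← Perm.mul_apply, h2, Perm.one_apply]
  have hfx : (fixF x)ᶜ.card = Fintype.card α - (fixF x).card := card_compl _
  obtain ⟨a, ha⟩ : (fixF x)ᶜ.Nonempty := card_pos.1 (by omega)
  rw [mem_compl, mem_fixF] at ha
  obtain ⟨c, hc, hc'⟩ := exists_mem_notMem_of_card_lt_card (s := {a, x a}) (t := (fixF x)ᶜ)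
    (lt_of_le_of_lt card_le_two (by omega))
  rw [mem_compl, mem_fixF] at hc
  simp only [Finset.mem_insert, Finset.mem_singleton, not_or] at hc'
  obtain ⟨F, hF, hFc⟩ := Finset.exists_subset_card_eq (s := fixF x) (n := r) (by omega)
  have hne : ∀ z ∈ F, z ≠ a ∧ z ≠ x a ∧ z ≠ c ∧ z ≠ x c := fun z hz => by
    have := mem_fixF.1 (hF hz)
    refine ⟨fun e => ha (e ▸ this), fun e => ha (x.injective (e ▸ this)), fun e => hc (e ▸ this),
      fun e => hc (x.injective (e ▸ this))⟩
  have q1 : x c ≠ a := fun e => hc'.2 (by rw [← e, hxx])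
  have q2 : x c ≠ x a := fun e => hc'.1 (x.injective e)
  refine ⟨insert a (insert (x a) (insert c (insert (x c) F))), ?_, ?_, a, mem_insert_self _ _, ha⟩
  · rw [card_insert_of_notMem (by
        simp only [Finset.mem_insert, not_or]
        exact ⟨Ne.symm ha, Ne.symm hc'.1, Ne.symm q1, fun h => (hne a h).1 rfl⟩),
      card_insert_of_notMem (by
        simp only [Finset.mem_insert, not_or]
        exact ⟨Ne.symm hc'.2, Ne.symm q2, fun h => (hne _ h).2.1 rfl⟩),
      card_insert_of_notMem (by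
        simp only [Finset.mem_insert, not_or]
        exact ⟨Ne.symm hc, fun h => (hne c h).2.2.1 rfl⟩),
      card_insert_of_notMem (fun h => (hne _ h).2.2.2 rfl), hFc]
  · intro z hz
    simp only [Finset.mem_insert] at hz ⊢
    rcases hz with rfl | rfl | rfl | rfl | hz
    · simp
    · simp [hxx]
    · simp
    · simp [hxx]
    · rw [mem_fixF.1 (hF hz)]; simp [hz]

variable {s : Finset α}

theorem lift_involution (htriv : ∀ g ∈ G, (∀ x ∈ s, g x = x) → g = 1) {σ : Perm s} (hσ : σ ∈ Ind G s)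
    (h2 : σ * σ = 1) (h1 : σ ≠ 1) :
    ∃ x ∈ G, x * x = 1 ∧ x ≠ 1 ∧ ∀ z : s, x (z : α) = σ z := by
  obtain ⟨x, hx, hxσ⟩ := hσ
  refine ⟨x, hx, htriv _ (G.mul_mem hx hx) fun z hz => ?_, fun e => h1 (Equiv.ext fun z => Subtype.ext ?_), hxσ⟩
  · rw [Perm.mul_apply, show x z = σ ⟨z, hz⟩ from hxσ ⟨z, hz⟩, hxσ, ← Perm.mul_apply, h2, Perm.one_apply]
  · rw [← hxσ z, e]; rfl

/-- A subgroup of order 8 of a symmetric group of degree 4 contains a transposition. -/
theorem exists_swap_of_card_eight {β : Type*} [Fintype β] [DecidableEq β] (hβ : Fintype.card β = 4)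
    (I : Subgroup (Perm β)) (hI : Nat.card I = 8) : ∃ a b, a ≠ b ∧ swap a b ∈ I := by
  have := Fact.mk Nat.prime_two
  obtain ⟨a, b, hab⟩ := Fintype.exists_pair_of_one_lt_card (by omega : 1 < Fintype.card β)
  have ho : orderOf (swap a b) = 2 :=
    orderOf_eq_prime (by rw [sq, swap_mul_self]) fun e => hab (swap_eq_one_iff.1 e)
  obtain ⟨P, hP⟩ := (IsPGroup.of_card (n := 1) (by rw [Nat.card_zpowers, ho, pow_one]) :
    IsPGroup 2 (Subgroup.zpowers (swap a b))).exists_le_sylow
  have hc : Nat.card I = 2 ^ (Nat.card (Perm β)).factorization 2 := by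
    have h24 : Nat.card (Perm β) = 2 ^ 3 * 3 := by
      rw [Nat.card_perm, Nat.card_eq_fintype_card, hβ]; rfl
    rw [hI, h24, Nat.factorization_mul (by norm_num) (by norm_num), Nat.Prime.factorization_pow Nat.prime_two,
      Nat.Prime.factorization Nat.prime_three]
    simp
  obtain ⟨g, hg⟩ := exists_smul_eq (Perm β) P (Sylow.ofCard I hc)
  refine ⟨g a, g b, fun e => hab (g.injective e), ?_⟩
  have h1 : g * swap a b * g⁻¹ ∈ ((Sylow.ofCard I hc : Sylow 2 (Perm β)) : Subgroup (Perm β)) := by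
    rw [← hg, Sylow.coe_subgroup_smul]
    exact Subgroup.smul_mem_pointwise_smul _ (MulAut.conj g) _ (hP (Subgroup.mem_zpowers _))
  rw [← swap_apply_apply] at h1
  exact h1

theorem not_eleven (hn : Fintype.card α = 11)
    (hs4 : ∀ s : Finset α, s.card = 4 → Nat.card (Ind G s) = 1) (h2G : 2 ∣ Nat.card G)
    (hinv : ∀ x ∈ G, x * x = 1 → x ≠ 1 → (fixF x).card < 2) : False := by
  have := Fact.mk Nat.prime_two
  obtain ⟨x, hx⟩ := exists_prime_orderOf_dvd_card' 2 h2G
  have hx2 : (x : Perm α) * x = 1 := by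
    have h := pow_orderOf_eq_one x; rw [hx, sq] at h; exact congrArg Subtype.val h
  have hx1 : (x : Perm α) ≠ 1 := fun e => by
    rw [show x = 1 from Subtype.ext e, orderOf_one] at hx; omega
  have h1 := hinv x x.2 hx2 hx1
  have h3 := fixF_modEq hx2
  rw [hn] at h3
  unfold Nat.ModEq at h3
  obtain ⟨s, hs, hinvs, a, ha, hxa⟩ := exists_invariant hx2 (by omega) 0 (by omega) (by omega)
  have := two_dvd_ind (G := G) x.2 hx2 hinvs ha hxa
  rw [hs4 s hs] at this
  omega

theorem not_twelve (hn : Fintype.card α = 12) (hs : s.card = 4) (hI : Nat.card (Ind G s) = 8)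
    (hs5 : ∀ t : Finset α, t.card = 5 → Nat.card (Ind G t) = 5)
    (htriv : ∀ g ∈ G, (∀ x ∈ s, g x = x) → g = 1)
    (hinv : ∀ x ∈ G, x * x = 1 → x ≠ 1 → (fixF x).card < 3) : False := by
  obtain ⟨a, b, hab, hsw⟩ := exists_swap_of_card_eight (by rw [Fintype.card_coe, hs]) _ hI
  obtain ⟨x, hx, hx2, hx1, hxσ⟩ := lift_involution htriv hsw (swap_mul_self a b)
    fun e => hab (swap_eq_one_iff.1 e)
  have h1 : 1 ≤ (fixF x).card := by
    obtain ⟨c, -, hc⟩ := exists_mem_notMem_of_card_lt_card (s := ({a, b} : Finset s)) (t := univ)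
      (by rw [card_univ, Fintype.card_coe, hs]; exact lt_of_le_of_lt card_le_two (by omega))
    simp only [Finset.mem_insert, Finset.mem_singleton, not_or] at hc
    exact card_pos.2 ⟨c, mem_fixF.2 (by rw [hxσ, swap_apply_of_ne_of_ne hc.1 hc.2])⟩
  have h3 := hinv x hx hx2 hx1
  obtain ⟨t, ht, hinvt, c, hc, hxc⟩ := exists_invariant hx2 h1 1 le_rfl (by omega)
  have := two_dvd_ind (G := G) hx hx2 hinvt hc hxc
  rw [hs5 t ht] at this
  omega

theorem not_seven (hn : Fintype.card α = 7) (hs : s.card = 4) (hI : Nat.card (Ind G s) = 6)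
    (htriv : ∀ g ∈ G, (∀ x ∈ s, g x = x) → g = 1)
    (hinv : ∀ x ∈ G, x * x = 1 → x ≠ 1 → (fixF x).card < 3) : False := by
  set I := Ind G s
  have := Fact.mk Nat.prime_two
  have := Fact.mk Nat.prime_three
  obtain ⟨σ, hσ⟩ := exists_prime_orderOf_dvd_card' (G := I) 2 (by rw [hI]; norm_num)
  obtain ⟨h, hh⟩ := exists_prime_orderOf_dvd_card' (G := I) 3 (by rw [hI]; norm_num)
  have hσ2 : (σ : Perm s) * σ = 1 := by
    have := pow_orderOf_eq_one σ; rw [hσ, sq] at this; exact congrArg Subtype.val this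
  have hσ1 : (σ : Perm s) ≠ 1 := fun e => by
    rw [show σ = 1 from Subtype.ext e, orderOf_one] at hσ; omega
  have hnofix : ∀ z, (σ : Perm s) z ≠ z := by
    intro z hz
    obtain ⟨x, hx, hx2, hx1, hxσ⟩ := lift_involution htriv σ.2 hσ2 hσ1
    have h2 := fixF_modEq hσ2
    rw [Fintype.card_coe, hs] at h2
    have h3 : 0 < (fixF (σ : Perm s)).card := card_pos.2 ⟨z, mem_fixF.2 hz⟩
    have h4 : (fixF (σ : Perm s)).map (Function.Embedding.subtype _) ⊆ fixF x := by
      intro w hw
      obtain ⟨w, hw', rfl⟩ := mem_map.1 hw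
      exact mem_fixF.2 ((hxσ w).trans (congrArg Subtype.val (mem_fixF.1 hw')))
    have h5 := card_le_card h4
    rw [card_map] at h5
    have h6 := fixF_modEq hx2
    rw [hn] at h6
    have h7 := hinv x hx hx2 hx1
    unfold Nat.ModEq at h2 h6
    omega
  have hho : orderOf (h : Perm s) = 3 := by rw [Subgroup.orderOf_coe, hh]
  obtain ⟨d, hd, hdu⟩ : ∃ d, (h : Perm s) d = d ∧ ∀ d', (h : Perm s) d' = d' → d' = d := by
    have h2 : (h : Perm s).supportᶜ.card ≡ Fintype.card s [MOD 3] :=
      Perm.card_compl_support_modEq (n := 1) (by rw [pow_one, ← hho, pow_orderOf_eq_one])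
    have h3 : (h : Perm s).support.Nonempty := by
      rw [Finset.nonempty_iff_ne_empty, Ne, Perm.support_eq_empty_iff]
      intro e; rw [e, orderOf_one] at hho; omega
    have h4 := card_compl_add_card (h : Perm s).support
    have h5 := card_pos.2 h3
    rw [Fintype.card_coe, hs] at h2 h4
    unfold Nat.ModEq at h2
    obtain ⟨d, hd⟩ := card_eq_one.1 (by omega : (h : Perm s).supportᶜ.card = 1)
    refine ⟨d, ?_, fun d' hd' => ?_⟩
    · have : d ∈ (h : Perm s).supportᶜ := by rw [hd]; exact mem_singleton_self d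
      simpa using this
    · have : d' ∈ (h : Perm s).supportᶜ := by simpa using hd'
      rw [hd] at this
      exact mem_singleton.1 this
  have hnorm : (Subgroup.zpowers h).Normal := by
    refine Subgroup.normal_of_index_eq_two ?_
    have h1 := (Subgroup.zpowers h).card_mul_index
    rw [Nat.card_zpowers, hh, hI] at h1
    omega
  obtain ⟨i, hi⟩ := Subgroup.mem_zpowers_iff.1 (hnorm.conj_mem h (Subgroup.mem_zpowers h) σ)
  have hi' : ((h : Perm s) ^ i) = (σ : Perm s) * h * (σ : Perm s)⁻¹ := congrArg Subtype.val hi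
  have h1 : ((h : Perm s) ^ i) d = d := Function.IsFixedPt.perm_zpow hd i
  rw [hi', Perm.mul_apply, Perm.mul_apply] at h1
  have h2 : (h : Perm s) ((σ : Perm s)⁻¹ d) = (σ : Perm s)⁻¹ d := by
    apply (σ : Perm s).injective
    rw [h1]; exact ((σ : Perm s).apply_symm_apply d).symm
  have h3 := hdu _ h2
  rw [Perm.inv_def, Equiv.symm_apply_eq] at h3
  exact hnofix d h3.symm

theorem not_twenty_four (hT : IsMultiplyPretransitive G α 3) (hn : Fintype.card α = 24)
    (hs : Semi G 3) (y : Fin 3 ↪ α) (he : Nat.card (kp G y) = 7) : False := by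
  have hT2 : IsMultiplyPretransitive G α 2 :=
    isMultiplyPretransitive_of_le (n := 3) (by norm_num) (by rw [Nat.card_eq_fintype_card]; omega)
  set y2 : Fin 2 ↪ α := Fin.castSuccEmb.trans y
  set H := kp G y2
  have hH : Nat.card H = 154 := by
    have h1 := card_group hT y
    have h2 := card_group hT2 y2
    rw [h2, hn, he] at h1
    simp [Nat.descFactorial] at h1
    change Nat.card (kp G y2) = 154
    omega
  have := Fact.mk (by norm_num : Nat.Prime 11)
  obtain ⟨P⟩ : Nonempty (Sylow 11 H) := inferInstance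
  have hP : Nat.card (P : Subgroup H) = 11 := by
    rw [P.card_eq_multiplicity, hH, show (154 : ℕ) = 11 * 14 by norm_num,
      Nat.factorization_mul (by norm_num) (by norm_num), Nat.Prime.factorization (by norm_num : Nat.Prime 11)]
    simp [Nat.factorization_eq_zero_of_not_dvd (show ¬ 11 ∣ 14 by norm_num)]
  have hone : Nat.card (Sylow 11 H) = 1 := by
    have h1 := card_sylow_modEq_one 11 H
    have h2 := P.card_dvd_index
    have h3 : (P : Subgroup H).index = 14 := by
      have := (P : Subgroup H).card_mul_index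
      rw [hP, hH] at this; omega
    rw [h3] at h2
    have h4 := Nat.le_of_dvd (by norm_num) h2
    unfold Nat.ModEq at h1
    interval_cases hq : Nat.card (Sylow 11 H) <;> omega
  have hnP : (P : Subgroup H).Normal := by
    have : Subsingleton (Sylow 11 H) := (Nat.card_eq_one_iff_unique.1 hone).1
    exact P.normal_of_subsingleton
  obtain ⟨u, hu⟩ := exists_prime_orderOf_dvd_card' (G := (P : Subgroup H)) 11 (by rw [hP])
  rw [← Subgroup.orderOf_coe] at hu
  set w : H := (u : H)
  have hwP : Subgroup.zpowers w = (P : Subgroup H) :=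
    Subgroup.eq_of_le_of_card_ge (Subgroup.zpowers_le.2 u.2) (by rw [Nat.card_zpowers, hu, hP])
  have hle : ∀ g ∈ kp G y, g ∈ H := fun g hg => ⟨hg.1, fun i => hg.2 i.castSucc⟩
  obtain ⟨h, hh⟩ := exists_prime_orderOf_dvd_card' (G := kp G y) 7 (hp := ⟨by norm_num⟩) (by rw [he])
  set h' : H := ⟨h, hle h h.2⟩
  have hh7 : h' ^ 7 = 1 := by
    have := pow_orderOf_eq_one h
    rw [hh] at this
    exact Subtype.ext (congrArg Subtype.val this :)
  obtain ⟨i, hi⟩ : ∃ i : ℕ, h' * w * h'⁻¹ = w ^ i := by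
    have := hnP.conj_mem w u.2 h'
    rw [← hwP] at this
    obtain ⟨i, hi⟩ := (mem_powers_iff_mem_zpowers (x := w)).2 this
    exact ⟨i, hi.symm⟩
  have hit : ∀ m : ℕ, h' ^ m * w * (h' ^ m)⁻¹ = w ^ i ^ m := by
    intro m
    induction m with
    | zero => simp
    | succ m ih =>
      rw [pow_succ', mul_inv_rev, show h' * h' ^ m * w * ((h' ^ m)⁻¹ * h'⁻¹) =
        h' * (h' ^ m * w * (h' ^ m)⁻¹) * h'⁻¹ by group, ih, ← conj_pow, hi, ← pow_mul]
      rw [pow_succ' i m]
  have h7 := hit 7
  rw [hh7, inv_one, one_mul, mul_one] at h7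
  have hmod : i ^ 7 % 11 = 1 := by
    have h8 : w ^ (i ^ 7) = w ^ 1 := by rw [pow_one, ← h7]
    have h9 := pow_eq_pow_iff_modEq.1 h8
    rw [hu] at h9
    exact h9
  have hi1 : i % 11 = 1 := by
    have h10 : (i % 11) ^ 7 % 11 = 1 := by rw [← Nat.pow_mod]; exact hmod
    have key : ∀ r < 11, r ^ 7 % 11 = 1 → r = 1 := by decide
    exact key _ (Nat.mod_lt _ (by norm_num)) h10
  have hcomm : h' * w = w * h' := by
    have : h' * w * h'⁻¹ = w := by rw [hi, ← pow_mod_orderOf, hu, hi1, pow_one]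
    exact mul_inv_eq_iff_eq_mul.1 this
  have hcomm' : (h : Perm α) * (w : Perm α) = (w : Perm α) * h := congrArg Subtype.val hcomm
  have hw11 : orderOf (w : Perm α) = 11 := by rw [Subgroup.orderOf_coe, hu]
  set c := y 2
  have hwfix : ∀ k : Fin 2, (w : Perm α) (y k.castSucc) = y k.castSucc := fun k => w.2.2 k
  -- powers of `w` of exponent prime to 11 move `c`
  have hmove : ∀ m : ℕ, m % 11 ≠ 0 → ((w : Perm α) ^ m) c ≠ c := by
    intro m hm hc
    have hk : (w : Perm α) ^ m ∈ kp G y := ⟨G.pow_mem w.2.1 m, fun k => by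
      induction k using Fin.lastCases with
      | last => exact hc
      | cast k => exact Function.IsFixedPt.perm_pow (hwfix k) m⟩
    have h1 : orderOf ((w : Perm α) ^ m) ∣ 7 := by
      rw [← he]
      exact (Subgroup.orderOf_mk _ hk).symm ▸ orderOf_dvd_natCard (⟨_, hk⟩ : kp G y)
    have h2 : orderOf ((w : Perm α) ^ m) = 11 := by
      rw [orderOf_pow, hw11, Nat.Coprime.gcd_eq_one ((Nat.Prime.coprime_iff_not_dvd (by norm_num)).2
        (fun hd => hm (Nat.dvd_iff_mod_eq_zero.1 hd))), Nat.div_one]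
    rw [h2] at h1
    exact absurd h1 (by norm_num)
  have hne : (h : Perm α) ≠ 1 := fun e => by
    rw [show h = 1 from Subtype.ext e, orderOf_one] at hh; omega
  have hle3 := hs h h.2.1 hne
  have hfixc : ∀ m : ℕ, (h : Perm α) (((w : Perm α) ^ m) c) = ((w : Perm α) ^ m) c := fun m => by
    rw [← Perm.mul_apply, (Commute.pow_right (show Commute (h : Perm α) w from hcomm') m).eq,
      Perm.mul_apply, h.2.2]
    rfl
  have hsub : insert (((w : Perm α) ^ 1) c) (insert (((w : Perm α) ^ 2) c) (univ.map y)) ⊆ fixF (h : Perm α) := by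
    intro z hz
    simp only [Finset.mem_insert, mem_map, mem_univ, true_and] at hz
    rcases hz with rfl | rfl | ⟨k, rfl⟩
    exacts [mem_fixF.2 (hfixc 1), mem_fixF.2 (hfixc 2), mem_fixF.2 (h.2.2 k)]
  have hnot : ∀ m : ℕ, m % 11 ≠ 0 → ((w : Perm α) ^ m) c ∉ univ.map y := by
    intro m hm hmem
    obtain ⟨k, -, hk⟩ := mem_map.1 hmem
    induction k using Fin.lastCases with
    | last => exact hmove m hm hk.symm
    | cast k =>
      have h5 : ((w : Perm α) ^ m) (y k.castSucc) = y k.castSucc := Function.IsFixedPt.perm_pow (hwfix k) m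
      have : c = y k.castSucc := ((w : Perm α) ^ m).injective (hk.symm.trans h5.symm)
      have := y.injective this
      fin_cases k <;> simp at this
  have h6 := card_le_card hsub
  rw [card_insert_of_notMem (by
      rw [Finset.mem_insert, not_or]
      refine ⟨fun e => ?_, hnot 1 (by norm_num)⟩
      exact hmove 1 (by norm_num) (((w : Perm α) ^ 1).injective (by
        rw [← Perm.mul_apply, ← pow_add]; exact e.symm))),
    card_insert_of_notMem (hnot 2 (by norm_num)), card_map, card_univ, Fintype.card_fin] at h6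
  omega

end Cfsg.Agent.LivingstoneWagner
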